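import Mathlib

/-! A form of Gaschütz's splitting theorem for modules of exponent two, and the pc-step lemma. -/

set_option autoImplicit false

namespace Cfsg.Agent.Coh

open scoped Pointwise

theorem gasch {E V : Type*} [Group E] [AddCommGroup V] (K A : Subgroup E) [hK : K.Normal]
    (lam : E → V) (act : E → V →+ V)
    (hadd : ∀ a ∈ K, ∀ b ∈ K, lam (a * b) = lam a + lam b)
    (hconj : ∀ e, ∀ a ∈ K, lam (e * a * e⁻¹) = act e (lam a))
    (h2 : ∀ v : V, v + v = 0) (hA : ∀ a ∈ A, a ∈ K → lam a = 0)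
    (hodd : Odd (K ⊔ A).index) :
    ∃ Γ : Subgroup E, (∀ e, ∃ k ∈ K, k⁻¹ * e ∈ Γ) ∧ ∀ k ∈ K, (k ∈ Γ ↔ lam k = 0) := by
  classical
  set B := K ⊔ A with hB
  have hfin : B.FiniteIndex := ⟨by intro h; rw [h] at hodd; simp at hodd⟩
  have := Fintype.ofFinite (E ⧸ B)
  have l1 : lam 1 = 0 := by
    have := hadd 1 K.one_mem 1 K.one_mem
    rw [mul_one, h2] at this; exact this
  have linv : ∀ a ∈ K, lam a⁻¹ = lam a := by
    intro a ha
    have h := hadd a ha a⁻¹ (K.inv_mem ha)
    rw [mul_inv_cancel, l1] at h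
    have h' := h2 (lam a)
    exact add_left_cancel (h.symm.trans h'.symm)
  have lcj : ∀ k ∈ K, ∀ a ∈ K, lam (k * a * k⁻¹) = lam a := by
    intro k hk a ha
    rw [hadd _ (K.mul_mem hk ha) _ (K.inv_mem hk), hadd _ hk _ ha, linv k hk, add_right_comm, h2,
      zero_add]
  have hdec : ∀ b : E, ∃ k ∈ K, (b ∈ B → k⁻¹ * b ∈ A) := by
    intro b
    by_cases hb : b ∈ B
    · have : b ∈ ((K : Set E) * (A : Set E) : Set E) := by rw [← Subgroup.normal_mul]; exact hb
      obtain ⟨k, hk, a, ha, rfl⟩ := this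
      exact ⟨k, hk, fun _ => by simpa using ha⟩
    · exact ⟨1, K.one_mem, fun h => (hb h).elim⟩
  choose kof hkK hkA using hdec
  have huniq : ∀ b ∈ B, ∀ k ∈ K, k⁻¹ * b ∈ A → lam (kof b) = lam k := by
    intro b hb k hk h
    have h1 : k⁻¹ * kof b ∈ A := by
      have := A.mul_mem h (A.inv_mem (hkA b hb))
      simpa [mul_assoc] using this
    have h3 := hA _ h1 (K.mul_mem (K.inv_mem hk) (hkK b))
    rw [hadd _ (K.inv_mem hk) _ (hkK b), linv k hk] at h3
    exact add_left_cancel (h3.trans (h2 _).symm)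
  let r : E ⧸ B → E := Quotient.out
  have hr : ∀ (e : E) (q : E ⧸ B), (r (e • q))⁻¹ * e * r q ∈ B := by
    intro e q
    have h1 : ((r (e • q) : E) : E ⧸ B) = ((e * r q : E) : E ⧸ B) := by
      simp only [r, QuotientGroup.out_eq']
      conv_lhs => rw [← QuotientGroup.out_eq' q]
      rfl
    rw [mul_assoc]
    exact QuotientGroup.eq.mp h1
  let term : E → E ⧸ B → E := fun e q =>
    r (e • q) * kof ((r (e • q))⁻¹ * e * r q) * (r (e • q))⁻¹
  have htK : ∀ e q, term e q ∈ K := fun e q => hK.conj_mem _ (hkK _) _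
  let d : E → V := fun e => ∑ q, lam (term e q)
  have hterm : ∀ e1 e2 q, lam (term (e1 * e2) q) =
      lam (term e1 (e2 • q)) + act e1 (lam (term e2 q)) := by
    intro e1 e2 q
    simp only [term, mul_smul]
    set r3 := r (e1 • e2 • q)
    set r2 := r (e2 • q)
    set r1 := r q
    have hb1 : r3⁻¹ * e1 * r2 ∈ B := hr e1 (e2 • q)
    have hb2 : r2⁻¹ * e2 * r1 ∈ B := hr e2 q
    set b1 := r3⁻¹ * e1 * r2 with hb1d
    set b2 := r2⁻¹ * e2 * r1 with hb2d
    have e0 : r3⁻¹ * (e1 * e2) * r1 = b1 * b2 := by rw [hb1d, hb2d]; group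
    set k1 := kof b1
    set k2 := kof b2
    have ha1 : k1⁻¹ * b1 ∈ A := hkA _ hb1
    have ha2 : k2⁻¹ * b2 ∈ A := hkA _ hb2
    have hk12 : k1 * ((k1⁻¹ * b1) * k2 * (k1⁻¹ * b1)⁻¹) ∈ K :=
      K.mul_mem (hkK _) (hK.conj_mem _ (hkK _) _)
    have h4 := huniq (b1 * b2) (B.mul_mem hb1 hb2) _ hk12 (by
      have := A.mul_mem ha1 ha2
      convert this using 1; group)
    rw [e0, hconj _ _ (hkK _), h4, ← hconj _ _ hk12, ← hconj _ _ (hK.conj_mem _ (hkK _) _)]
    have e5 : r3 * (k1 * ((k1⁻¹ * b1) * k2 * (k1⁻¹ * b1)⁻¹)) * r3⁻¹ =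
        (r3 * k1 * r3⁻¹) * ((r3 * k1 * r3⁻¹)⁻¹ * (e1 * (r2 * k2 * r2⁻¹) * e1⁻¹) *
          ((r3 * k1 * r3⁻¹)⁻¹)⁻¹) := by rw [hb1d]; group
    have hk3 : r3 * k1 * r3⁻¹ ∈ K := hK.conj_mem _ (hkK _) _
    have hk4 : e1 * (r2 * k2 * r2⁻¹) * e1⁻¹ ∈ K := hK.conj_mem _ (hK.conj_mem _ (hkK _) _) _
    rw [e5, hadd _ hk3 _ (hK.conj_mem _ hk4 _), lcj _ (K.inv_mem hk3) _ hk4]
  have hd : ∀ e1 e2, d (e1 * e2) = d e1 + act e1 (d e2) := by
    intro e1 e2
    simp only [d, hterm, Finset.sum_add_distrib, map_sum]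
    congr 1
    exact Equiv.sum_comp (MulAction.toPerm e2) (fun q => lam (term e1 q))
  have hdK : ∀ k ∈ K, d k = lam k := by
    intro k hk
    have h1 : ∀ q : E ⧸ B, k • q = q := by
      intro q
      rw [← QuotientGroup.out_eq' q]
      apply QuotientGroup.eq.mpr
      apply (le_sup_left : K ≤ B)
      have := hK.conj_mem _ (K.inv_mem hk) (Quotient.out q)⁻¹
      simpa [mul_assoc] using this
    have h3 : ∀ q, lam (term k q) = lam k := by
      intro q
      simp only [term, h1]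
      have hk' : (r q)⁻¹ * k * r q ∈ K := by
        simpa using hK.conj_mem _ hk (r q)⁻¹
      rw [hconj _ _ (hkK _), huniq _ ((le_sup_left : K ≤ B) hk') _ hk' (by rw [inv_mul_cancel]; exact A.one_mem),
        ← hconj _ _ hk']
      congr 1; group
    simp only [d, h3, Finset.sum_const, Finset.card_univ]
    obtain ⟨m, hm⟩ := hodd
    rw [← Nat.card_eq_fintype_card, ← Subgroup.index_eq_card, hm, add_nsmul, mul_nsmul, two_nsmul,
      h2]
    simp
  have hrange : ∀ e, ∃ k ∈ K, lam k = d e := by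
    intro e
    refine Finset.sum_induction _ (fun v => ∃ k ∈ K, lam k = v) ?_ ⟨1, K.one_mem, l1⟩
      fun q _ => ⟨_, htK e q, rfl⟩
    rintro _ _ ⟨a, ha, rfl⟩ ⟨b, hb, rfl⟩
    exact ⟨a * b, K.mul_mem ha hb, hadd a ha b hb⟩
  let Γ : Subgroup E :=
    { carrier := {e | d e = 0}
      one_mem' := by show d 1 = 0; rw [hdK 1 K.one_mem, l1]
      mul_mem' := fun {a b} ha hb => by
        show d (a * b) = 0
        rw [hd, show d a = 0 from ha, show d b = 0 from hb]; simp
      inv_mem' := fun {a} ha => by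
        show d a⁻¹ = 0
        have := hd a⁻¹ a
        rw [inv_mul_cancel, hdK 1 K.one_mem, l1, show d a = 0 from ha] at this
        simpa using this.symm }
  refine ⟨Γ, fun e => ?_, fun k hk => ?_⟩
  · obtain ⟨k, hk, he⟩ := hrange e
    refine ⟨k, hk, ?_⟩
    show d (k⁻¹ * e) = 0
    rw [hd, ← he, ← hconj _ _ hk, hdK _ (K.inv_mem hk), lcj _ (K.inv_mem hk) _ hk, linv k hk, h2]
  · show d k = 0 ↔ _
    rw [hdK k hk]

/-- one step of a polycyclic series -/
theorem pc_step {E : Type*} [Group E] {S : Set E} {x : E}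
    (h2 : x * x ∈ Subgroup.closure S) (hc : ∀ s ∈ S, x⁻¹ * s * x ∈ Subgroup.closure S) :
    ∀ h ∈ Subgroup.closure (insert x S),
      h ∈ Subgroup.closure S ∨ x⁻¹ * h ∈ Subgroup.closure S := by
  set H := Subgroup.closure S with hH
  have c1 : ∀ h ∈ H, x⁻¹ * h * x ∈ H := by
    intro h hh
    induction hh using Subgroup.closure_induction with
    | mem s hs => exact hc s hs
    | one => simp
    | mul a b _ _ ha hb => convert H.mul_mem ha hb using 1; group
    | inv a _ ha => convert H.inv_mem ha using 1; group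
  have c2 : ∀ h ∈ H, x * h * x⁻¹ ∈ H := by
    intro h hh
    convert H.mul_mem (H.mul_mem h2 (c1 h hh)) (H.inv_mem h2) using 1; group
  intro h hh
  induction hh using Subgroup.closure_induction with
  | mem s hs =>
    rcases hs with rfl | hs
    · right; simp
    · left; exact Subgroup.subset_closure hs
  | one => left; exact H.one_mem
  | mul a b _ _ ha hb =>
    rcases ha with ha | ha <;> rcases hb with hb | hb
    · left; exact H.mul_mem ha hb
    · right; convert H.mul_mem (c1 a ha) hb using 1; group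
    · right; convert H.mul_mem ha hb using 1; group
    · left; convert H.mul_mem (H.mul_mem (c2 _ ha) h2) hb using 1; group
  | inv a _ ha =>
    rcases ha with ha | ha
    · left; exact H.inv_mem ha
    · right; convert H.mul_mem (c1 _ (H.inv_mem ha)) (H.inv_mem h2) using 1; group

end Cfsg.Agent.Coh
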