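import Cfsg.Agent.Lib.Coh.Pack
import Cfsg.Agent.Lib.Coh.Gasch

/-! Tails of relators in extensions of subgroups of `Sym(24)` by subquotients of the
permutation module over `F₂`. -/

set_option autoImplicit false

namespace Cfsg.Agent.Coh

open Cfsg.Agent.PG Cfsg.Agent.Golay Equiv
open scoped Pointwise symmDiff

/-- an extension with a family of functionals on the kernel -/
structure Ctx (E : Type*) [Group E] where
  /-- the projection -/
  π : E →* Perm GolayPt
  /-- representing words -/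
  ω : E → GolayPt → ZMod 2
  /-- admissible functionals -/
  Φ : Finset GolayPt → Prop
  inv : ∀ e s, Φ s → Φ (π e • s)
  mul : ∀ a b s, π a = 1 → π b = 1 → Φ s →
    ∑ p ∈ s, ω (a * b) p = ∑ p ∈ s, ω a p + ∑ p ∈ s, ω b p
  conj : ∀ e a s, π a = 1 → Φ s → ∑ p ∈ s, ω (e⁻¹ * a * e) p = ∑ p ∈ π e • s, ω a p

variable {E : Type*} [Group E] (c : Ctx E)

/-- value of a functional -/
def Ctx.L (s : Finset GolayPt) (a : E) : ZMod 2 := ∑ p ∈ s, c.ω a p

theorem Ctx.L_mul {a b : E} {s : Finset GolayPt} (ha : c.π a = 1) (hb : c.π b = 1) (hs : c.Φ s) :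
    c.L s (a * b) = c.L s a + c.L s b := c.mul a b s ha hb hs

theorem Ctx.L_conj (e : E) {a : E} {s : Finset GolayPt} (ha : c.π a = 1) (hs : c.Φ s) :
    c.L s (e⁻¹ * a * e) = c.L (c.π e • s) a := c.conj e a s ha hs

theorem Ctx.L_one {s : Finset GolayPt} (hs : c.Φ s) : c.L s 1 = 0 := by
  have := c.L_mul (map_one _) (map_one _) hs
  rwa [mul_one, CharTwo.add_self_eq_zero] at this

theorem Ctx.L_inv {a : E} {s : Finset GolayPt} (ha : c.π a = 1) (hs : c.Φ s) :
    c.L s a⁻¹ = c.L s a := by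
  have := c.L_mul ha (b := a⁻¹) (by rw [map_inv, ha, inv_one]) hs
  rw [mul_inv_cancel, c.L_one hs] at this
  exact add_left_cancel (this.symm.trans (CharTwo.add_self_eq_zero _).symm)

/-- the common kernel of the functionals -/
def Ctx.Δ : Subgroup E where
  carrier := {a | c.π a = 1 ∧ ∀ s, c.Φ s → c.L s a = 0}
  one_mem' := ⟨map_one _, fun _ hs => c.L_one hs⟩
  mul_mem' := fun {a b} ha hb => ⟨by rw [map_mul, ha.1, hb.1, mul_one], fun s hs => by
    rw [c.L_mul ha.1 hb.1 hs, ha.2 s hs, hb.2 s hs, add_zero]⟩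
  inv_mem' := fun {a} ha => ⟨by rw [map_inv, ha.1, inv_one], fun s hs => by
    rw [c.L_inv ha.1 hs, ha.2 s hs]⟩

theorem Ctx.conj_Δ (e : E) {a : E} (ha : a ∈ c.Δ) : e⁻¹ * a * e ∈ c.Δ :=
  ⟨by simp [ha.1], fun s hs => by rw [c.L_conj e ha.1 hs, ha.2 _ (c.inv e s hs)]⟩

/-- the extension splits modulo `Δ` -/
def Ctx.Split : Prop :=
  ∃ Γ : Subgroup E, (∀ e, ∃ k, c.π k = 1 ∧ k⁻¹ * e ∈ Γ) ∧ ∀ k, c.π k = 1 → (k ∈ Γ ↔ k ∈ c.Δ)

theorem Ctx.split_of {A : Subgroup E} (hA : ∀ a ∈ A, c.π a = 1 → a ∈ c.Δ)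
    (hodd : Odd (c.π.ker ⊔ A).index) : c.Split := by
  let act : E → ({s // c.Φ s} → ZMod 2) →+ ({s // c.Φ s} → ZMod 2) := fun e =>
    { toFun := fun v s => v ⟨c.π e⁻¹ • s.1, c.inv _ _ s.2⟩
      map_zero' := rfl
      map_add' := fun _ _ => rfl }
  obtain ⟨Γ, h1, h2⟩ := gasch c.π.ker A (fun a (s : {s // c.Φ s}) => c.L s.1 a) act
    (fun a ha b hb => funext fun s => c.L_mul ha hb s.2)
    (fun e a ha => funext fun s => by
      have := c.L_conj e⁻¹ ha s.2
      rw [inv_inv] at this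
      exact this)
    (fun v => funext fun s => CharTwo.add_self_eq_zero _)
    (fun a ha hk => funext fun s => (hA a ha hk).2 s.1 s.2) hodd
  refine ⟨Γ, h1, fun k hk => (h2 k hk).trans ⟨fun h => ⟨hk, fun s hs => congrFun h ⟨s, hs⟩⟩,
    fun h => funext fun s => h.2 s.1 s.2⟩⟩

/-- lifts of the letters -/
def Ctx.Lift (gens : List ℕ) (ℓ : ℕ → E) : Prop := ∀ x, pack (c.π (ℓ x)) = nthD idN gens x

/-- value of a word -/
def ev (ℓ : ℕ → E) (w : List ℕ) : E := (w.map ℓ).prod

@[simp] theorem ev_nil (ℓ : ℕ → E) : ev ℓ [] = 1 := rfl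
@[simp] theorem ev_cons (ℓ : ℕ → E) (x : ℕ) (w : List ℕ) : ev ℓ (x :: w) = ℓ x * ev ℓ w := by
  simp [ev]

/-- packed value of a word -/
noncomputable def evN (gens w : List ℕ) : ℕ :=
  List.rec (motive := fun _ => ℕ) idN (fun x _ r => force r fun r => mulN (nthD idN gens x) r) w

theorem Ctx.evN_eq {gens : List ℕ} {ℓ : ℕ → E} (h : c.Lift gens ℓ) (w : List ℕ) :
    evN gens w = pack (c.π (ev ℓ w)) := by
  induction w with
  | nil => rw [ev_nil, map_one, pack_one]; rfl
  | cons x w ih =>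
    refine (force_eq (evN gens w) fun r => mulN (nthD idN gens x) r).trans ?_
    rw [ih, ← h, mulN_pack, ev_cons, map_mul]

/-- relators -/
abbrev Rel : Type := List ℕ × List ℕ

/-- the `r`-th relator -/
noncomputable def rel (rels : List Rel) (r : ℕ) : Rel := nthD ([], []) rels r

/-- the tail of a relator -/
def tail (ℓ : ℕ → E) (r : Rel) : E := (ev ℓ r.2)⁻¹ * ev ℓ r.1

/-- the relators hold -/
noncomputable def relOK (gens : List ℕ) (rels : List Rel) : Bool :=
  allL rels fun r => Nat.beq (evN gens r.1) (evN gens r.2)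

theorem Ctx.π_tail {gens : List ℕ} {rels : List Rel} {ℓ : ℕ → E} (h : c.Lift gens ℓ)
    (hr : relOK gens rels = true) (r : ℕ) : c.π (tail ℓ (rel rels r)) = 1 := by
  have : c.π (ev ℓ (rel rels r).1) = c.π (ev ℓ (rel rels r).2) := by
    rw [rel, nthD_eq]
    by_cases hl : r < rels.length
    · rw [List.getD_eq_getElem _ _ hl]
      apply pack_inj
      rw [← c.evN_eq h, ← c.evN_eq h]
      exact Nat.eq_of_beq_eq_true (allL_spec hr _ (List.getElem_mem hl))
    · rw [List.getD_eq_default _ _ (by omega)]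
  rw [tail, map_mul, map_inv, this, inv_mul_cancel]

/-- the tails -/
noncomputable def Ctx.tw (rels : List Rel) (ℓ : ℕ → E) : ℕ → GolayPt → ZMod 2 :=
  fun r => c.ω (tail ℓ (rel rels r))

theorem Ctx.val_put_tail {rels : List Rel} (ℓ : ℕ → E) {x : ℕ} (hx : c.Φ (ofMask x)) (r : ℕ) :
    val rels.length (put x r) (c.tw rels ℓ) = c.L (ofMask x) (tail ℓ (rel rels r)) := by
  rw [val_put]
  split_ifs with h
  · rfl
  · rw [rel, nthD_eq, List.getD_eq_default _ _ (by omega)]
    simp [tail, c.L_one hx]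

/-! ### Two-cycles -/

/-- a section -/
noncomputable def Ctx.sec (m : ℕ) : E :=
  open Classical in if h : ∃ e, pack (c.π e) = m then h.choose else 1

theorem Ctx.π_sec (e : E) : c.π (c.sec (pack (c.π e))) = c.π e := by
  have h : ∃ e', pack (c.π e') = pack (c.π e) := ⟨e, rfl⟩
  rw [Ctx.sec, dif_pos h]
  exact pack_inj h.choose_spec

/-- the edge cochain -/
noncomputable def Ctx.edge (gens : List ℕ) (ℓ : ℕ → E) (s : Finset GolayPt) (key : ℕ) : ZMod 2 :=
  c.L s ((c.sec (mulN (nthD idN gens (key / 2 ^ 120)) (key % 2 ^ 120)))⁻¹ * ℓ (key / 2 ^ 120) *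
    c.sec (key % 2 ^ 120))

/-- walk along a word, toggling edges -/
noncomputable def walk (gens w : List ℕ) : ℕ → List ℕ → (ℕ → List ℕ → Bool) → Bool :=
  List.rec (motive := fun _ => ℕ → List ℕ → (ℕ → List ℕ → Bool) → Bool) (fun m L k => k m L)
    (fun x _ ih m L k => ih m L fun m' L' => force (mulN (nthD idN gens x) m') fun m'' =>
      force (Nat.add (Nat.shiftLeft x 120) m') fun key => k m'' (toggle key L')) w

theorem Ctx.walk_eq {gens : List ℕ} {ℓ : ℕ → E} (h : c.Lift gens ℓ) {s : Finset GolayPt}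
    (hs : c.Φ s) (w : List ℕ) (e : E) (L : List ℕ) :
    ∃ L' : List ℕ, (∀ k, walk gens w (pack (c.π e)) L k = k (pack (c.π (ev ℓ w * e))) L') ∧
      (L'.map (c.edge gens ℓ s)).sum = (L.map (c.edge gens ℓ s)).sum +
        c.L s ((c.sec (pack (c.π (ev ℓ w * e))))⁻¹ * ev ℓ w * c.sec (pack (c.π e))) := by
  induction w with
  | nil => exact ⟨L, fun k => by rw [ev_nil, one_mul]; rfl, by simp [c.L_one hs]⟩
  | cons x w ih =>
    obtain ⟨L', h1, h2⟩ := ih
    have e1 : mulN (nthD idN gens x) (pack (c.π (ev ℓ w * e))) = pack (c.π (ev ℓ (x :: w) * e)) := by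
      rw [← h, mulN_pack, ev_cons, mul_assoc, map_mul _ (ℓ x)]
    refine ⟨toggle (x <<< 120 + pack (c.π (ev ℓ w * e))) L', fun k => ?_, ?_⟩
    · refine (h1 _).trans ?_
      rw [force_eq, force_eq, e1]; rfl
    · have hlt := pack_lt (c.π (ev ℓ w * e))
      have d1 : (x <<< 120 + pack (c.π (ev ℓ w * e))) / 2 ^ 120 = x := by
        rw [Nat.shiftLeft_eq, add_comm, Nat.add_mul_div_right _ _ (by positivity),
          Nat.div_eq_of_lt hlt, zero_add]
      have d2 : (x <<< 120 + pack (c.π (ev ℓ w * e))) % 2 ^ 120 = pack (c.π (ev ℓ w * e)) := by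
        rw [Nat.shiftLeft_eq, add_comm, Nat.add_mul_mod_self_right, Nat.mod_eq_of_lt hlt]
      rw [sum_toggle, h2, Ctx.edge, d1, d2, e1, add_left_comm]
      have p0 := c.π_sec e
      have p1 := c.π_sec (ev ℓ w * e)
      have p2 := c.π_sec (ev ℓ (x :: w) * e)
      generalize c.sec (pack (c.π e)) = s0 at p0 ⊢
      generalize c.sec (pack (c.π (ev ℓ w * e))) = s1 at p1 ⊢
      generalize c.sec (pack (c.π (ev ℓ (x :: w) * e))) = s2 at p2 ⊢
      rw [← c.L_mul (by simp only [map_mul, map_inv, p1, p2, ev_cons]; group)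
        (by simp only [map_mul, map_inv, p0, p1]; group) hs,
        show s2⁻¹ * ℓ x * s1 * (s1⁻¹ * ev ℓ w * s0) = s2⁻¹ * ev ℓ (x :: w) * s0 by
          rw [ev_cons]; group]

/-- a cell: word of the base point, its packed value, the relator -/
abbrev Cell : Type := List ℕ × ℕ × ℕ

/-- the boundary of a list of cells vanishes -/
noncomputable def cyc (gens : List ℕ) (rels : List Rel) (cs : List Cell) : List ℕ → Bool :=
  List.rec (motive := fun _ => List ℕ → Bool) (fun L => List.rec true (fun _ _ _ => false) L)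
    (fun a _ ih L => andB (Nat.beq (evN gens a.1) a.2.1)
      (walk gens (rel rels a.2.2).1 a.2.1 L fun _ L1 =>
        walk gens (rel rels a.2.2).2 a.2.1 L1 fun _ L2 => ih L2)) cs

/-- the linear form of a cycle -/
noncomputable def form (nrm : ℕ → ℕ) (cs : List Cell) (x : ℕ) : ℕ :=
  List.rec (motive := fun _ => ℕ) 0
    (fun a _ r => Nat.xor (force (actN a.2.1 x) fun y => put (nrm y) a.2.2) r) cs

theorem form_cons (nrm : ℕ → ℕ) (v : List ℕ) (m r : ℕ) (cs : List Cell) (x : ℕ) :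
    form nrm ((v, m, r) :: cs) x = put (nrm (actN m x)) r ^^^ form nrm cs x := by
  have e : form nrm ((v, m, r) :: cs) x =
    Nat.xor (force (actN m x) fun y => put (nrm y) r) (form nrm cs x) := rfl
  rw [e, force_eq]; rfl

theorem Ctx.cyc_spec {gens : List ℕ} {rels : List Rel} {ℓ : ℕ → E} (h : c.Lift gens ℓ)
    (hr : relOK gens rels = true) {nrm : ℕ → ℕ}
    (hn : ∀ x a, c.π a = 1 → c.Φ (ofMask x) → c.Φ (ofMask (nrm x)) ∧
      c.L (ofMask (nrm x)) a = c.L (ofMask x) a)
    {x : ℕ} (hx : c.Φ (ofMask x)) (cs : List Cell) (L : List ℕ)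
    (hc : cyc gens rels cs L = true) :
    val rels.length (form nrm cs x) (c.tw rels ℓ) = (L.map (c.edge gens ℓ (ofMask x))).sum := by
  induction cs generalizing L with
  | nil =>
    cases L with
    | nil => exact val_zero _ _
    | cons a L => exact absurd hc (by simp [cyc])
  | cons a cs ih =>
    obtain ⟨v, m, r⟩ := a
    have hc' : andB (Nat.beq (evN gens v) m) (walk gens (rel rels r).1 m L fun _ L1 =>
        walk gens (rel rels r).2 m L1 fun _ L2 => cyc gens rels cs L2) = true := hc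
    rw [andB_eq, Bool.and_eq_true, Nat.beq_eq, c.evN_eq h] at hc'
    obtain ⟨rfl, h2⟩ := hc'
    obtain ⟨L1, a1, b1⟩ := c.walk_eq h hx (rel rels r).1 (ev ℓ v) L
    obtain ⟨L2, a2, b2⟩ := c.walk_eq h hx (rel rels r).2 (ev ℓ v) L1
    rw [a1, a2] at h2
    have e : form nrm ((v, pack (c.π (ev ℓ v)), r) :: cs) x =
        put (nrm (actN (pack (c.π (ev ℓ v))) x)) r ^^^ form nrm cs x := by
      exact form_cons nrm v _ r cs x
    have ht := c.π_tail h hr r
    have hΦ : c.Φ (ofMask (actN (pack (c.π (ev ℓ v))) x)) := by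
      rw [ofMask_actN]; exact c.inv _ _ hx
    obtain ⟨n1, n2⟩ := hn _ _ ht hΦ
    rw [e, val_xor, ih L2 h2, b2, b1, c.val_put_tail ℓ n1, n2, ofMask_actN]
    set t := tail ℓ (rel rels r) with htd
    have e1 : ev ℓ (rel rels r).1 = ev ℓ (rel rels r).2 * t := by rw [htd, tail]; group
    have e2 : c.π (ev ℓ (rel rels r).1 * ev ℓ v) = c.π (ev ℓ (rel rels r).2 * ev ℓ v) := by
      rw [e1]; simp [ht]
    rw [e2, e1]
    set s0 := c.sec (pack (c.π (ev ℓ v))) with hs0
    set s1 := c.sec (pack (c.π (ev ℓ (rel rels r).2 * ev ℓ v))) with hs1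
    have p0 : c.π s0 = c.π (ev ℓ v) := c.π_sec _
    have p1 : c.π s1 = c.π (ev ℓ (rel rels r).2 * ev ℓ v) := c.π_sec _
    have e3 : s1⁻¹ * (ev ℓ (rel rels r).2 * t) * s0 =
        (s1⁻¹ * ev ℓ (rel rels r).2 * s0) * (s0⁻¹ * t * s0) := by group
    rw [e3, c.L_mul (by simp only [map_mul, map_inv, p0, p1]; group) (by simp [ht]) hx,
      c.L_conj s0 ht hx, p0]
    generalize c.L (c.π (ev ℓ v) • ofMask x) t = y
    generalize c.L (ofMask x) (s1⁻¹ * ev ℓ (rel rels r).2 * s0) = z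
    have := CharTwo.add_self_eq_zero y
    have := CharTwo.add_self_eq_zero z
    linear_combination ‹y + y = 0› + ‹z + z = 0›

/-! ### Changing the lifts -/

/-- the form giving the change of `L x (ev w)` -/
noncomputable def fox (gens w : List ℕ) (x : ℕ) : (ℕ → ℕ → ℕ) → ℕ :=
  List.rec (motive := fun _ => (ℕ → ℕ → ℕ) → ℕ) (fun k => k idN 0)
    (fun y _ ih k => ih fun m acc => force (mulN (nthD idN gens y) m) fun m' =>
      force (Nat.xor (put (actN m x) y) acc) fun acc' => k m' acc') w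

/-- the form giving the change of a tail -/
noncomputable def foxR (gens : List ℕ) (r : Rel) (x : ℕ) : ℕ :=
  Nat.xor (fox gens r.1 x fun _ a => a) (fox gens r.2 x fun _ a => a)

/-- indicator words of the blocks of `n` -/
noncomputable def ind (n : ℕ) : ℕ → GolayPt → ZMod 2 :=
  fun x p => if p ∈ ofMask (n >>> (24 * x)) then 1 else 0

theorem Ctx.ev_mod {gens : List ℕ} {ℓ κ : ℕ → E} (h : c.Lift gens ℓ) {R : ℕ}
    {y : ℕ → GolayPt → ZMod 2} (h1 : ∀ j, c.π (κ j) = 1)
    (h2 : ∀ j s, c.Φ s → c.L s (κ j) = if j < R then ∑ p ∈ s, y j p else 0) (w : List ℕ) :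
    ∃ δ, c.π δ = 1 ∧ ev (fun j => ℓ j * κ j) w = ev ℓ w * δ ∧ ∀ x, c.Φ (ofMask x) →
      ∃ a, (∀ k, fox gens w x k = k (pack (c.π (ev ℓ w))) a) ∧ c.L (ofMask x) δ = val R a y := by
  induction w with
  | nil =>
    exact ⟨1, map_one _, by simp, fun x hx => ⟨0, fun k => by rw [ev_nil, map_one, pack_one]; rfl,
      by rw [c.L_one hx, val_zero]⟩⟩
  | cons j w ih =>
    obtain ⟨δ, d1, d2, d3⟩ := ih
    have k1 : c.π ((ev ℓ w)⁻¹ * κ j * ev ℓ w) = 1 := by simp [h1]
    refine ⟨(ev ℓ w)⁻¹ * κ j * ev ℓ w * δ, by rw [map_mul, k1, d1, mul_one],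
      by rw [ev_cons, ev_cons, d2]; group, fun x hx => ?_⟩
    obtain ⟨a, a1, a2⟩ := d3 x hx
    refine ⟨put (actN (pack (c.π (ev ℓ w))) x) j ^^^ a, fun k => (a1 _).trans ?_, ?_⟩
    · rw [force_eq, force_eq, ← h, mulN_pack, ev_cons, map_mul]; rfl
    · rw [c.L_mul k1 d1 hx, a2, val_xor, val_put, c.L_conj _ (h1 j) hx, h2 _ _ (c.inv _ _ hx),
        ofMask_actN]

theorem Ctx.tail_mod {gens : List ℕ} {ℓ κ : ℕ → E} (h : c.Lift gens ℓ) {R : ℕ}
    {y : ℕ → GolayPt → ZMod 2} (h1 : ∀ j, c.π (κ j) = 1)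
    (h2 : ∀ j s, c.Φ s → c.L s (κ j) = if j < R then ∑ p ∈ s, y j p else 0) {r : Rel}
    (hr : c.π (tail ℓ r) = 1) {x : ℕ} (hx : c.Φ (ofMask x)) :
    c.L (ofMask x) (tail (fun j => ℓ j * κ j) r) =
      c.L (ofMask x) (tail ℓ r) + val R (foxR gens r x) y := by
  obtain ⟨δ1, a1, b1, c1⟩ := c.ev_mod h h1 h2 r.1
  obtain ⟨δ2, a2, b2, c2⟩ := c.ev_mod h h1 h2 r.2
  obtain ⟨u1, d1, e1⟩ := c1 x hx
  obtain ⟨u2, d2, e2⟩ := c2 x hx
  have e : tail (fun j => ℓ j * κ j) r = δ2⁻¹ * (tail ℓ r * δ1) := by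
    rw [tail, tail, b1, b2]; group
  have f : foxR gens r x = u1 ^^^ u2 := by rw [foxR, d1, d2]; rfl
  rw [e, c.L_mul (by simp [a2]) (by simp [hr, a1]) hx, c.L_inv a2 hx, c.L_mul hr a1 hx, f, val_xor,
    e1, e2]
  ring

theorem Ctx.Lift.mod {gens : List ℕ} {ℓ κ : ℕ → E} (h : c.Lift gens ℓ) (h1 : ∀ j, c.π (κ j) = 1) :
    c.Lift gens fun j => ℓ j * κ j := fun x => by rw [map_mul, h1, mul_one]; exact h x

/-- normalisation item: relator, functional, modification, form -/
abbrev Item : Type := ℕ × ℕ × ℕ × ℕ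

/-- check of the normalisation items -/
noncomputable def triOK (gens : List ℕ) (rels : List Rel) (okΦ okW : ℕ → Bool) (R : ℕ)
    (l : List Item) : Bool :=
  List.rec (motive := fun _ => Bool) true (fun a t ih =>
    andB (okΦ a.2.1) <| andB (Nat.beq (foxR gens (rel rels a.1) a.2.1) a.2.2.2) <|
    andB (allN R fun j => okW (Nat.land (Nat.shiftRight a.2.2.1 (Nat.mul 24 j)) 0xffffff)) <|
    andB (Nat.beq (Nat.mod (dotN R a.2.2.2 a.2.2.1) 2) 1) <|
    andB (allL t fun b => Nat.beq (Nat.mod (dotN R b.2.2.2 a.2.2.1) 2) 0) ih) l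

theorem Ctx.normalise {gens : List ℕ} {rels : List Rel} (hr : relOK gens rels = true)
    {okΦ okW : ℕ → Bool} (hΦ : ∀ x, okΦ x = true → c.Φ (ofMask x))
    (hW : ∀ y, okW y = true → ∃ k, c.π k = 1 ∧
      ∀ s, c.Φ s → c.L s k = ((s ∩ ofMask y).card : ZMod 2))
    (h0 : ∃ ℓ, c.Lift gens ℓ) {R : ℕ} (l : List Item) (hl : triOK gens rels okΦ okW R l = true) :
    ∃ ℓ, c.Lift gens ℓ ∧ ∀ a ∈ l, c.Φ (ofMask a.2.1) ∧
      foxR gens (rel rels a.1) a.2.1 = a.2.2.2 ∧ c.L (ofMask a.2.1) (tail ℓ (rel rels a.1)) = 0 := by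
  induction l with
  | nil => obtain ⟨ℓ, h⟩ := h0; exact ⟨ℓ, h, by simp⟩
  | cons a l ih =>
    obtain ⟨r, x, n, G⟩ := a
    have hl' : (andB (okΦ x) <| andB (Nat.beq (foxR gens (rel rels r) x) G) <|
      andB (allN R fun j => okW (Nat.land (Nat.shiftRight n (Nat.mul 24 j)) 0xffffff)) <|
      andB (Nat.beq (Nat.mod (dotN R G n) 2) 1) <|
      andB (allL l fun b => Nat.beq (Nat.mod (dotN R b.2.2.2 n) 2) 0)
        (triOK gens rels okΦ okW R l)) = true := hl
    simp only [andB_eq, Bool.and_eq_true, Nat.beq_eq] at hl'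
    obtain ⟨g1, g2, g3, g4, g5, g6⟩ := hl'
    obtain ⟨ℓ, h, h2⟩ := ih g6
    have hx := hΦ x g1
    by_cases hz : c.L (ofMask x) (tail ℓ (rel rels r)) = 0
    · refine ⟨ℓ, h, fun a ha => ?_⟩
      rcases List.mem_cons.1 ha with rfl | ha
      · exact ⟨hx, g2, hz⟩
      · exact h2 a ha
    · have : ∀ j, ∃ k, c.π k = 1 ∧ ∀ s, c.Φ s →
          c.L s k = if j < R then ∑ p ∈ s, ind n j p else 0 := by
        intro j
        split_ifs with hj
        · obtain ⟨k, k1, k2⟩ := hW _ (allN_spec g3 j hj)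
          refine ⟨k, k1, fun s hs => ?_⟩
          rw [k2 s hs]
          simp only [ind, sum_ind]
          have : ofMask (Nat.land (Nat.shiftRight n (Nat.mul 24 j)) 0xffffff) =
              ofMask (n >>> (24 * j)) := by
            show ofMask ((n >>> (24 * j)) &&& 0xffffff) = _
            rw [ofMask_and, ofMask_full, Finset.inter_univ]
          rw [this]
        · exact ⟨1, map_one _, fun s hs => c.L_one hs⟩
      choose κ k1 k2 using this
      have cast : ∀ d e : ℕ, Nat.mod d 2 = e → (d : ZMod 2) = e := by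
        intro d e he
        rw [← he]; exact (ZMod.natCast_mod d 2).symm
      refine ⟨_, h.mod c k1, fun a ha => ?_⟩
      rcases List.mem_cons.1 ha with rfl | ha
      · refine ⟨hx, g2, ?_⟩
        rw [c.tail_mod h k1 k2 (c.π_tail h hr _) hx, g2]
        have e := val_dotN R G n
        rw [cast _ _ g4] at e
        have e' : val R G (ind n) = 1 := by rw [← Nat.cast_one, ← e]; rfl
        rw [e']
        revert hz
        generalize c.L (ofMask x) (tail ℓ (rel rels r)) = y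
        revert y; decide
      · obtain ⟨f1, f2, f3⟩ := h2 a ha
        refine ⟨f1, f2, ?_⟩
        rw [c.tail_mod h k1 k2 (c.π_tail h hr _) f1, f2, f3, zero_add]
        have e := val_dotN R a.2.2.2 n
        rw [cast _ _ (Nat.eq_of_beq_eq_true (allL_spec g5 a ha))] at e
        rw [← Nat.cast_zero, ← e]; rfl

/-- the equations: cycles with their functionals -/
noncomputable def eqsOf (nrm : ℕ → ℕ) (cy : List (List Cell × List ℕ)) (l : List Item) : List ℕ :=
  List.append (List.map (fun a : Item => put a.2.1 a.1) l)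
    (List.flatMap (fun a : List Cell × List ℕ => List.map (form nrm a.1) a.2) cy)

/-- the targets are combinations of the equations -/
noncomputable def tgtOK (eqs basis : List ℕ) (F0 t0 : ℕ) (Ms : List (List ℕ)) (lo n : ℕ) : Bool :=
  forceL eqs fun eqs => allN n fun i => force (Nat.add lo i) fun r =>
    allN basis.length fun j => force (nthD 0 basis j) fun x =>
      Nat.beq (xorSel eqs (nthD 0 (nthD [] Ms r) j) 0)
        (Nat.xor (put x r) (sel (pc (Nat.land x (Nat.shiftRight t0 (Nat.mul 24 r)))) 0 F0))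

/-- the targets of row `r` are combinations of the equations -/
def Tgt (eqs basis : List ℕ) (F0 t0 : ℕ) (Ms : List (List ℕ)) (r : ℕ) : Prop :=
  ∀ j < basis.length, xorSel eqs (nthD 0 (nthD [] Ms r) j) 0 =
    put (nthD 0 basis j) r ^^^ sel (pc (nthD 0 basis j &&& (t0 >>> (24 * r)))) 0 F0

theorem tgt_step {eqs basis : List ℕ} {F0 t0 : ℕ} {Ms : List (List ℕ)} {lo n : ℕ}
    (ht : tgtOK eqs basis F0 t0 Ms lo n = true) (h : ∀ r < lo, Tgt eqs basis F0 t0 Ms r) :
    ∀ r < lo + n, Tgt eqs basis F0 t0 Ms r := by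
  intro r hr
  by_cases h1 : r < lo
  · exact h r h1
  obtain ⟨i, rfl⟩ : ∃ i, r = lo + i := ⟨r - lo, by omega⟩
  intro j hj
  unfold tgtOK at ht
  rw [forceL_eq] at ht
  have h3 := allN_spec ht i (by omega)
  rw [force_eq] at h3
  have h4 := allN_spec h3 j hj
  rw [force_eq, Nat.beq_eq] at h4
  exact h4

theorem Ctx.main {gens : List ℕ} {rels : List Rel} (hr : relOK gens rels = true)
    {okΦ okW : ℕ → Bool} (hΦ : ∀ x, okΦ x = true → c.Φ (ofMask x))
    (hW : ∀ y, okW y = true → ∃ k, c.π k = 1 ∧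
      ∀ s, c.Φ s → c.L s k = ((s ∩ ofMask y).card : ZMod 2))
    {nrm : ℕ → ℕ} (hn : ∀ x a, c.π a = 1 → c.Φ (ofMask x) → c.Φ (ofMask (nrm x)) ∧
      c.L (ofMask (nrm x)) a = c.L (ofMask x) a)
    (h0 : ∃ ℓ, c.Lift gens ℓ) {R : ℕ} {l : List Item} (hl : triOK gens rels okΦ okW R l = true)
    {cy : List (List Cell × List ℕ)} (hcy : ∀ a ∈ cy, cyc gens rels a.1 [] = true)
    (hcx : (allL cy fun a => allL a.2 okΦ) = true) {basis : List ℕ}
    (hb : allL basis okΦ = true) {F0 t0 : ℕ} {Ms : List (List ℕ)} {n : ℕ}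
    (ht : ∀ r < n, Tgt (eqsOf nrm cy l) basis F0 t0 Ms r) :
    ∃ ℓ, c.Lift gens ℓ ∧ ∃ ε : ZMod 2, ∀ r < n, ∀ x ∈ basis, c.L (ofMask x) (tail ℓ (rel rels r)) =
      ε * (pc (x &&& (t0 >>> (24 * r))) : ZMod 2) := by
  obtain ⟨ℓ, h, h2⟩ := c.normalise hr hΦ hW h0 l hl
  refine ⟨ℓ, h, val rels.length F0 (c.tw rels ℓ), fun r hr' x hx => ?_⟩
  have he : ∀ F ∈ eqsOf nrm cy l, val rels.length F (c.tw rels ℓ) = 0 := by
    intro F hF
    rcases List.mem_append.1 hF with hF | hF
    · obtain ⟨a, ha, rfl⟩ := List.mem_map.1 hF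
      rw [c.val_put_tail ℓ (h2 a ha).1, (h2 a ha).2.2]
    · obtain ⟨a, ha, hF⟩ := List.mem_flatMap.1 hF
      obtain ⟨y, hy, rfl⟩ := List.mem_map.1 hF
      exact c.cyc_spec h hr hn (hΦ _ (allL_spec (allL_spec hcx a ha) y hy)) a.1 [] (hcy a ha)
  obtain ⟨j, hj, rfl⟩ := List.getElem_of_mem hx
  have h4 := ht r hr' j hj
  rw [nthD_eq 0 basis, List.getD_eq_getElem _ _ hj] at h4
  have h5 := val_xorSel he (nthD 0 (nthD [] Ms r) j) 0
  rw [h4, val_zero] at h5
  have h6 : val rels.length (put basis[j] r ^^^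
      sel (pc (basis[j] &&& (t0 >>> (24 * r)))) 0 F0) (c.tw rels ℓ) = 0 := h5
  rw [val_xor, c.val_put_tail ℓ (hΦ _ (allL_spec hb _ hx)), val_sel] at h6
  generalize pc (basis[j] &&& (t0 >>> (24 * r))) = d at h6 ⊢
  rw [← ZMod.natCast_mod d 2]
  rw [Nat.testBit_zero] at h6
  rcases Nat.mod_two_eq_zero_or_one d with e | e <;> rw [e] at h6 ⊢
  · simpa using h6
  · simp only [decide_true, if_true] at h6
    rw [Nat.cast_one, mul_one]
    exact add_right_cancel (h6.trans (CharTwo.add_self_eq_zero _).symm)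

/-! ### The Sylow subgroup -/

/-- normal forms in the last `k` of the seven letters -/
noncomputable def nfs (gens : List ℕ) (k : ℕ) : List ℕ :=
  Nat.rec (motive := fun _ => List ℕ) [idN]
    (fun k r => List.append r (List.map (fun m => force m (mulN (nthD idN gens (6 - k)))) r)) k

/-- the first 28 relators form a power-conjugate presentation -/
def PcRels (rels : List Rel) : Prop :=
  ∀ i < 7, (∃ r < 28, (rels.getD r ([], [])).1 = [i, i] ∧
      ∀ y ∈ (rels.getD r ([], [])).2, i < y ∧ y < 7) ∧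
    ∀ j < 7, i < j → ∃ r < 28, (rels.getD r ([], [])).1 = [j, i] ∧
      (rels.getD r ([], [])).2.head? = some i ∧ ∀ y ∈ (rels.getD r ([], [])).2.tail, i < y ∧ y < 7

set_option synthInstance.maxSize 1000 in
instance (rels : List Rel) : Decidable (PcRels rels) := by unfold PcRels; infer_instance

theorem Ctx.split_of_tails {gens : List ℕ} {rels : List Rel} {ℓ : ℕ → E} (h : c.Lift gens ℓ)
    (hp : PcRels rels)
    (hn : (allN 7 fun k => allL (nfs gens k) fun m => Bool.not (Nat.beq m (nthD idN gens (6 - k))))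
      = true)
    (hc : Nat.card c.π.range = 10200960) (ht : ∀ r < 28, tail ℓ (rel rels r) ∈ c.Δ) : c.Split := by
  let S : ℕ → Set E := fun i => {a | a ∈ c.Δ ∨ ∃ j, i ≤ j ∧ j < 7 ∧ a = ℓ j}
  have hev : ∀ i (w : List ℕ), (∀ y ∈ w, i < y ∧ y < 7) → ev ℓ w ∈ Subgroup.closure (S (i + 1)) := by
    intro i w hw
    induction w with
    | nil => exact Subgroup.one_mem _
    | cons y w ih =>
      rw [ev_cons]
      have := hw y List.mem_cons_self
      exact Subgroup.mul_mem _ (Subgroup.subset_closure (Or.inr ⟨y, this.1, this.2, rfl⟩))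
        (ih fun z hz => hw z (List.mem_cons_of_mem _ hz))
  have hΔ : ∀ i, ∀ a ∈ c.Δ, a ∈ Subgroup.closure (S i) :=
    fun i a ha => Subgroup.subset_closure (Or.inl ha)
  have key : ∀ k ≤ 7, (∀ a ∈ Subgroup.closure (S (7 - k)), pack (c.π a) ∈ nfs gens k ∧
      (c.π a = 1 → a ∈ c.Δ)) ∧ Nat.card ((Subgroup.closure (S (7 - k))).map c.π) = 2 ^ k := by
    intro k
    induction k with
    | zero =>
      intro _
      have : Subgroup.closure (S 7) = c.Δ := by
        apply le_antisymm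
        · rw [Subgroup.closure_le]
          rintro a (ha | ⟨j, h1, h2, _⟩)
          · exact ha
          · omega
        · exact hΔ 7
      rw [Nat.sub_zero, this]
      refine ⟨fun a ha => ⟨by rw [ha.1, pack_one]; exact List.mem_cons_self, fun _ => ha⟩, ?_⟩
      have : c.Δ.map c.π = ⊥ := by
        rw [Subgroup.map_eq_bot_iff]; exact fun a ha => ha.1
      rw [this]; simp
    | succ k ih =>
      intro hk
      obtain ⟨ih1, ih2⟩ := ih (by omega)
      obtain ⟨i, hi⟩ : ∃ i, 7 - (k + 1) = i := ⟨_, rfl⟩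
      have hi1 : 7 - k = i + 1 := by omega
      have hi2 : 6 - k = i := by omega
      rw [hi1] at ih1 ih2
      rw [hi]
      have eS : S i = insert (ℓ i) (S (i + 1)) := by
        ext a
        simp only [S, Set.mem_insert_iff, Set.mem_ofPred_eq]
        constructor
        · rintro (ha | ⟨j, h1, h2, rfl⟩)
          · exact Or.inr (Or.inl ha)
          · rcases h1.eq_or_lt with rfl | h1
            · exact Or.inl rfl
            · exact Or.inr (Or.inr ⟨j, h1, h2, rfl⟩)
        · rintro (rfl | ha | ⟨j, h1, h2, rfl⟩)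
          · exact Or.inr ⟨i, le_rfl, by omega, rfl⟩
          · exact Or.inl ha
          · exact Or.inr ⟨j, by omega, h2, rfl⟩
      obtain ⟨⟨r, r1, r2, r3⟩, hp2⟩ := hp i (by omega)
      have step := pc_step (S := S (i + 1)) (x := ℓ i) (by
          have t1 := ht r r1
          rw [rel, nthD_eq, tail, r2] at t1
          have := Subgroup.mul_mem _ (hev i _ r3) (hΔ _ _ t1)
          simpa using this) (by
          rintro s (hs | ⟨j, h1, h2, rfl⟩)
          · exact hΔ _ _ (c.conj_Δ _ hs)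
          · obtain ⟨r, r1, r2, r3, r4⟩ := hp2 j h2 h1
            have t1 := ht r r1
            rw [rel, nthD_eq, tail, r2] at t1
            obtain ⟨w, hw⟩ := List.head?_eq_some_iff.1 r3
            rw [hw] at t1 r4
            have := Subgroup.mul_mem _ (hev i _ r4) (hΔ _ _ t1)
            simpa [mul_assoc] using this)
      rw [← eS] at step
      have hnot : ∀ a ∈ Subgroup.closure (S (i + 1)), c.π a ≠ c.π (ℓ i) := by
        intro a ha e
        have := allL_spec (allN_spec hn k (by omega)) _ (ih1 a ha).1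
        rw [e, h, hi2] at this
        simp at this
      have hle : Subgroup.closure (S (i + 1)) ≤ Subgroup.closure (S i) :=
        Subgroup.closure_mono (by rw [eS]; exact Set.subset_insert _ _)
      have hli : ℓ i ∈ Subgroup.closure (S i) :=
        Subgroup.subset_closure (by rw [eS]; exact Set.mem_insert _ _)
      refine ⟨fun a ha => ?_, ?_⟩
      · rcases step a ha with h1 | h1
        · exact ⟨List.mem_append_left _ (ih1 a h1).1, (ih1 a h1).2⟩
        · refine ⟨List.mem_append_right _ (List.mem_map.2 ⟨_, (ih1 _ h1).1, ?_⟩), fun e => ?_⟩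
          · rw [force_eq, hi2, ← h, mulN_pack, ← map_mul]; simp
          · exact (hnot _ (Subgroup.inv_mem _ h1) (by simp [e])).elim
      · set Q1 := (Subgroup.closure (S (i + 1))).map c.π
        set Q0 := (Subgroup.closure (S i)).map c.π
        have hQ : Q1 ≤ Q0 := Subgroup.map_mono hle
        have hidx : (Q1.subgroupOf Q0).index = 2 := by
          rw [Subgroup.index_eq_two_iff']
          refine ⟨⟨c.π (ℓ i)⁻¹, _, Subgroup.inv_mem _ hli, rfl⟩, ?_⟩
          rintro ⟨_, a, ha, rfl⟩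
          simp only [Subgroup.mem_subgroupOf, Subgroup.coe_mul]
          have hx : ∀ u ∈ Q1, c.π (ℓ i)⁻¹ * u ∉ Q1 := by
            intro u hu hu'
            obtain ⟨b, hb, e⟩ := Q1.mul_mem hu (Q1.inv_mem hu')
            exact hnot b hb (by rw [e]; simp)
          rcases step a ha with h1 | h1
          · exact Or.inr ⟨⟨a, h1, rfl⟩, hx _ ⟨a, h1, rfl⟩⟩
          · exact Or.inl ⟨⟨_, h1, by simp⟩, fun h2 => hx _ h2 ⟨_, h1, by simp⟩⟩
        rw [← (Q1.subgroupOf Q0).card_mul_index, hidx,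
          Nat.card_congr (Subgroup.subgroupOfEquivOfLe hQ).toEquiv, ih2, pow_succ]
  obtain ⟨k1, k2⟩ := key 7 le_rfl
  refine c.split_of (A := Subgroup.closure (S 0)) (fun a ha => (k1 a ha).2) ?_
  rw [sup_comm, ← Subgroup.comap_map_eq, Subgroup.index_comap]
  have h1 := (((Subgroup.closure (S 0)).map c.π).subgroupOf c.π.range).card_mul_index
  rw [Nat.card_congr (Subgroup.subgroupOfEquivOfLe (Subgroup.map_le_range _ _)).toEquiv, hc,
    show Nat.card ((Subgroup.closure (S 0)).map c.π) = 2 ^ 7 from k2] at h1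
  have : ((Subgroup.closure (S 0)).map c.π).relIndex c.π.range = 79695 := by
    rw [Subgroup.relIndex]; omega
  rw [this]; decide

end Cfsg.Agent.Coh
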