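import Cfsg.Agent.Lib.Coh.Ctx

/-! Letters and relators in `M23`. -/

set_option autoImplicit false
set_option maxRecDepth 100000
set_option exponentiation.threshold 100000

namespace Cfsg.Agent.Coh

open Cfsg.Agent.PG Cfsg.Agent.Golay

def gens : List ℕ := [0xbd9f24522daa6035a9d3394c261020, 0xbd9277c6509b1ae29aa3a296440820, 0xba613a3dd5945075aacd618a408860, 0xbc670ab6d4426435a9cf098a4608e0, 0xbd872750f064daf52d09894c4a8820, 0xbc13171e9664c2f5aaa3918a4409a0, 0xb85127d0ed9b20e5a875898a448ac0, 0xbb2d41ca2f4a2755160139962681c4, 0xba5f269e280d8705a9cca18a2982a4, 0xbca671c6d04b9ac2990f0904aaae80, 0xbc171ac8e1425a39bccaa398428ac0, 0xbc50d7c2d29ba8c5a935094c2190e0]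

def rels : List Rel := [
  ([0, 0], []),
  ([1, 0], [0, 1, 4]),
  ([2, 0], [0, 2, 3]),
  ([3, 0], [0, 3]),
  ([4, 0], [0, 4]),
  ([5, 0], [0, 5, 6]),
  ([6, 0], [0, 6]),
  ([1, 1], []),
  ([2, 1], [1, 2, 5]),
  ([3, 1], [1, 3, 5, 6]),
  ([4, 1], [1, 4]),
  ([5, 1], [1, 5]),
  ([6, 1], [1, 6]),
  ([2, 2], []),
  ([3, 2], [2, 3]),
  ([4, 2], [2, 4, 5, 6]),
  ([5, 2], [2, 5]),
  ([6, 2], [2, 6]),
  ([3, 3], []),
  ([4, 3], [3, 4, 6]),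
  ([5, 3], [3, 5]),
  ([6, 3], [3, 6]),
  ([4, 4], []),
  ([5, 4], [4, 5]),
  ([6, 4], [4, 6]),
  ([5, 5], []),
  ([6, 5], [5, 6]),
  ([6, 6], []),
  ([7, 0], [0, 7, 7, 1, 5, 6]),
  ([8, 0], [0, 8, 8]),
  ([7, 7, 7], []),
  ([8, 7], [7, 8]),
  ([1, 7], [7, 1, 4, 6]),
  ([2, 7], [7, 3, 6]),
  ([3, 7], [7, 2, 3, 5]),
  ([4, 7], [7, 1, 5]),
  ([5, 7], [7, 5]),
  ([6, 7], [7, 6]),
  ([8, 8, 8], []),
  ([1, 8], [8, 1, 6]),
  ([2, 8], [8, 2, 3]),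
  ([3, 8], [8, 2]),
  ([4, 8], [8, 4, 5]),
  ([5, 8], [8, 6]),
  ([6, 8], [8, 5, 6]),
  ([9, 1], [1, 9, 9]),
  ([0, 1], [1, 0, 4]),
  ([9, 9, 9], []),
  ([0, 9], [9, 4, 6]),
  ([2, 9], [9, 2, 5, 6]),
  ([3, 9], [9, 5, 6]),
  ([4, 9], [9, 0, 4, 6]),
  ([5, 9], [9, 3, 5]),
  ([6, 9], [9, 6]),
  ([10, 0], [0, 10, 10, 5, 4, 6]),
  ([11, 0], [0, 11]),
  ([10, 10, 10], []),
  ([11, 10], [10, 11, 5, 4]),
  ([1, 10], [10, 4]),
  ([5, 10], [10, 1, 4, 6]),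
  ([4, 10], [10, 1, 4]),
  ([6, 10], [10, 5, 4, 6]),
  ([11, 11], []),
  ([1, 11], [11, 1, 5, 4]),
  ([5, 11], [11, 5, 6]),
  ([4, 11], [11, 4, 6]),
  ([6, 11], [11, 6]),
  ([11], [0, 3])]

theorem rels_ok : relOK gens rels = true := by decide +kernel

theorem pc_rels : PcRels rels := by decide +kernel

theorem nfs_ok : (allN 7 fun k => allL (nfs gens k) fun m =>
    Bool.not (Nat.beq m (nthD idN gens (6 - k)))) = true := by decide +kernel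

theorem gens_ok : allL gens m23B = true := by decide +kernel

/-- reduction modulo the code and the extra point -/
def nrmC (x : ℕ) : ℕ := Nat.land (Nat.xor x (enc x)) 0x7fffff

/-- code words avoiding the extra point -/
noncomputable def okC (x : ℕ) : Bool := andB (isCw x) (Nat.blt x 0x800000)

end Cfsg.Agent.Coh
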