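import Cfsg.Agent.Lib.Coh.Code
import Cfsg.Agent.Lib.Coh.Cocode
import Cfsg.Agent.Lib.Golay.Stab
import Cfsg.Agent.Lib.Golay.Coset

/-! Extensions of `M23` by the code and cocode modules. -/

set_option autoImplicit false
set_option maxRecDepth 100000

namespace Cfsg.Agent.Coh

open Cfsg.Agent.PG Cfsg.Agent.Golay Equiv
open scoped Pointwise symmDiff

theorem card_M23 : Nat.card Spor.M23 = 10200960 := by
  rw [← card_stab_pt none]
  have : MulAction.stabilizer M24 (none : GolayPt) = Spor.M23.subgroupOf M24 := by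
    ext g
    simp [Spor.M23, Subgroup.mem_subgroupOf, coe_smul_M24]
  rw [this]
  exact (Nat.card_congr (Subgroup.subgroupOfEquivOfLe inf_le_left).toEquiv).symm

variable {E : Type*} [Group E]

/-- the projection -/
def prj (N : Subgroup E) [N.Normal] (φ : E ⧸ N ≃* Spor.M23) : E →* Perm GolayPt :=
  Spor.M23.subtype.comp (φ.toMonoidHom.comp (QuotientGroup.mk' N))

theorem prj_apply (N : Subgroup E) [N.Normal] (φ : E ⧸ N ≃* Spor.M23) (e : E) :
    prj N φ e = ((φ (QuotientGroup.mk e) : Spor.M23) : Perm GolayPt) := rfl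

theorem prj_eq_one {N : Subgroup E} [N.Normal] {φ : E ⧸ N ≃* Spor.M23} {e : E} :
    prj N φ e = 1 ↔ e ∈ N := by
  rw [prj_apply, OneMemClass.coe_eq_one, map_eq_one_iff _ φ.injective, QuotientGroup.eq_one_iff]

theorem range_prj (N : Subgroup E) [N.Normal] (φ : E ⧸ N ≃* Spor.M23) :
    (prj N φ).range = Spor.M23 := by
  apply le_antisymm
  · rintro _ ⟨e, rfl⟩; exact (φ (QuotientGroup.mk e)).2
  · intro σ hσ
    obtain ⟨e, he⟩ := QuotientGroup.mk_surjective (φ.symm ⟨σ, hσ⟩)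
    exact ⟨e, by rw [prj_apply, he]; simp⟩

theorem Ctx.exists_lift (c : Ctx E) (h : c.π.range = Spor.M23) : ∃ ℓ, c.Lift gens ℓ := by
  have : ∀ x, ∃ e, pack (c.π e) = nthD idN gens x := by
    intro x
    rw [nthD_eq]
    by_cases hx : x < gens.length
    · rw [List.getD_eq_getElem _ _ hx]
      obtain ⟨σ, hσ, e⟩ := m23B_spec (allL_spec gens_ok _ (List.getElem_mem hx))
      rw [← h] at hσ
      obtain ⟨a, rfl⟩ := hσ
      exact ⟨a, e⟩
    · rw [List.getD_eq_default _ _ (by omega)]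
      exact ⟨1, by rw [map_one, pack_one]⟩
  choose ℓ hℓ using this
  exact ⟨ℓ, hℓ⟩

theorem sum_smul_set (σ : Perm GolayPt) (s : Finset GolayPt) (f : GolayPt → ZMod 2) :
    ∑ p ∈ σ • s, f p = ∑ p ∈ s, f (σ p) := by
  rw [Finset.smul_finset_def]
  exact Finset.sum_image fun _ _ _ _ h => σ.injective h

theorem sum_wd (s t : Finset GolayPt) : ∑ p ∈ s, wd t p = ((s ∩ t).card : ZMod 2) := sum_ind s t

theorem sum_cw {s : Finset GolayPt} (hs : Cw s) {w : GolayPt → ZMod 2} (hw : w ∈ golayCode) :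
    ∑ p ∈ s, w p = 0 := by
  rw [← wd_support w, sum_wd, ← ZMod.natCast_mod, hs.even_inter (cw_support.2 hw)]; rfl

theorem okC_spec {x : ℕ} (h : okC x = true) : Cw (ofMask x) ∧ none ∉ ofMask x := by
  unfold okC at h
  rw [andB_eq, Bool.and_eq_true, Nat.blt_eq] at h
  refine ⟨cw_of_isCw h.1, ?_⟩
  rw [mem_ofMask, Nat.testBit_lt_two_pow (show x < 2 ^ idx none from h.2)]; simp

theorem sum_nrmC (x : ℕ) {w : GolayPt → ZMod 2} (hw : w ∈ golayCode) (h0 : w none = 0) :
    ∑ p ∈ ofMask (nrmC x), w p = ∑ p ∈ ofMask x, w p := by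
  have e : nrmC x = (x ^^^ enc x) &&& 0x7fffff := rfl
  rw [e, ← erase_ofMask, Finset.sum_erase _ h0, ofMask_xor, sum_symmDiff2, sum_cw (cw_enc x) hw,
    add_zero]

theorem testBit_xor_enc (x : ℕ) {i : ℕ} (hi : i < 12) : (x ^^^ enc x).testBit i = false := by
  have h := congrArg (fun y => y.testBit i) (enc_mod' x)
  simp only [show 4096 = 2 ^ 12 from rfl, Nat.testBit_mod_two_pow, hi, decide_true,
    Bool.true_and] at h
  rw [Nat.testBit_xor, h]; simp

theorem Split.compl {c : Ctx E} {N : Subgroup E} (hN : ∀ e, c.π e = 1 ↔ e ∈ N)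
    (hΔ : ∀ a ∈ c.Δ, a = 1) (h : c.Split) : ∃ H : Subgroup E, H ⊓ N = ⊥ ∧ H ⊔ N = ⊤ := by
  obtain ⟨Γ, h1, h2⟩ := h
  refine ⟨Γ, ?_, ?_⟩
  · rw [eq_bot_iff]
    intro a ha
    exact hΔ a ((h2 a ((hN a).2 ha.2)).1 ha.1)
  · rw [eq_top_iff]
    intro e _
    obtain ⟨k, k1, k2⟩ := h1 e
    have := Subgroup.mul_mem _ (Subgroup.mem_sup_right (S := Γ) ((hN k).1 k1))
      (Subgroup.mem_sup_left (T := N) k2)
    simpa using this

theorem code_split (N : Subgroup E) [hN : N.Normal] (φ : E ⧸ N ≃* ↥Spor.M23)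
    (ψ : Additive ↥N →+ (GolayPt → ZMod 2)) (hinj : Function.Injective ψ)
    (hrange : ∀ w : GolayPt → ZMod 2, w ∈ Set.range ψ ↔ (w ∈ golayCode ∧ w none = 0))
    (hψ : ∀ (g : E) (n : ↥N),
      ψ (Additive.ofMul ⟨g * n * g⁻¹, hN.conj_mem n n.2 g⟩)
        = ψ (Additive.ofMul n) ∘
          ⇑(((φ (QuotientGroup.mk g) : ↥Spor.M23) : Equiv.Perm GolayPt)⁻¹)) :
    ∃ H : Subgroup E, H ⊓ N = ⊥ ∧ H ⊔ N = ⊤ := by
  classical
  let ω : E → GolayPt → ZMod 2 := fun a => if h : a ∈ N then ψ (Additive.ofMul ⟨a, h⟩) else 0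
  have hω : ∀ a (h : a ∈ N), ω a = ψ (Additive.ofMul ⟨a, h⟩) := fun a h => dif_pos h
  let c : Ctx E :=
    { π := prj N φ
      ω := ω
      Φ := fun _ => True
      inv := fun _ _ _ => trivial
      mul := fun a b s ha hb _ => by
        rw [prj_eq_one] at ha hb
        rw [hω a ha, hω b hb, hω _ (N.mul_mem ha hb), ← Finset.sum_add_distrib]
        refine Finset.sum_congr rfl fun p _ => ?_
        rw [← Pi.add_apply, ← map_add]; rfl
      conj := fun e a s ha _ => by
        rw [prj_eq_one] at ha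
        have h1 := hψ e⁻¹ ⟨a, ha⟩
        rw [← prj_apply, map_inv, inv_inv (prj N φ e)] at h1
        have h2 : e⁻¹ * a * e ∈ N := by simpa using hN.conj_mem a ha e⁻¹
        rw [sum_smul_set, hω a ha, hω _ h2]
        refine Finset.sum_congr rfl fun p _ => ?_
        rw [← Function.comp_apply (f := ψ _) (g := prj N φ e), ← h1]
        simp }
  have hmem : ∀ a, c.π a = 1 → c.ω a ∈ golayCode ∧ c.ω a none = 0 := by
    intro a ha
    exact (hrange _).1 ⟨_, (hω a (prj_eq_one.1 ha)).symm⟩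
  obtain ⟨ℓ, h, ε, he⟩ := c.main rels_ok (okΦ := fun _ => true) (okW := okC) (fun _ _ => trivial)
    (fun y hy => by
      obtain ⟨y1, y2⟩ := okC_spec hy
      obtain ⟨n, hn⟩ := (hrange (wd (ofMask y))).2 ⟨(cw_iff _).1 y1, if_neg y2⟩
      refine ⟨n.toMul, prj_eq_one.2 n.toMul.2, fun s _ => ?_⟩
      rw [← sum_wd, ← hn]
      exact Finset.sum_congr rfl fun p _ => congrFun (hω _ n.toMul.2) p)
    (nrm := nrmC) (fun x a ha _ => ⟨trivial, sum_nrmC x (hmem a ha).1 (hmem a ha).2⟩)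
    (c.exists_lift (range_prj N φ)) Code.items_ok Code.cy_ok Code.cx_ok Code.basis_ok Code.tgt_ok
  refine Split.compl (c := c) (fun _ => prj_eq_one) (fun a ha => ?_)
    (c.split_of_tails h pc_rels nfs_ok (by rw [← card_M23, ← range_prj N φ]) fun r hr => ?_)
  · have h1 := prj_eq_one.1 ha.1
    have h2 : ψ (Additive.ofMul ⟨a, h1⟩) = 0 := by
      funext p
      have := ha.2 {p} trivial
      rw [Ctx.L, Finset.sum_singleton] at this
      rw [← hω a h1]; exact this
    have := hinj (h2.trans (map_zero ψ).symm)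
    exact congrArg Subtype.val (Additive.ofMul.injective this)
  · have ht := c.π_tail h rels_ok r
    refine ⟨ht, fun s _ => ?_⟩
    obtain ⟨m, _, rfl⟩ := exists_mask s
    rw [Ctx.L, ← sum_nrmC m (hmem _ ht).1 (hmem _ ht).2]
    refine Finset.sum_eq_zero fun p hp => ?_
    have e : nrmC m = (m ^^^ enc m) &&& (2 ^ 23 - 1) := rfl
    rw [mem_ofMask, e, Nat.testBit_and, Nat.testBit_two_pow_sub_one, Bool.and_eq_true,
      decide_eq_true_eq] at hp
    have h12 : 12 ≤ idx p := by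
      by_contra hlt
      rw [testBit_xor_enc m (by omega)] at hp
      simp at hp
    have hb : ∀ i < 23, 12 ≤ i → 2 ^ i ∈ Code.basis := by decide +kernel
    have := he r hr _ (hb _ hp.2 h12)
    rw [ofMask_two_pow (idx_lt p), pt_idx, Ctx.L, Finset.sum_singleton] at this
    rw [this]
    simp [Code.t0, pc, pop8_spec, cnt_zero]

/-! ### The cocode module -/

/-- the admissible functionals for the cocode module -/
def ΦC (s : Finset GolayPt) : Prop := Cw s ∧ none ∉ s

theorem ΦC.smul {s : Finset GolayPt} (hs : ΦC s) {σ : Perm GolayPt} (hσ : σ ∈ Spor.M23) :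
    ΦC (σ • s) := by
  refine ⟨hs.1.smul hσ.1, fun h => hs.2 ?_⟩
  have h1 : σ none = none := hσ.2
  rwa [← h1, apply_mem_smul] at h

theorem span_chk : (allN 4096 fun m => force (enc m) fun x =>
    orB (Nat.ble 0x800000 x) (Nat.beq (xorSel Cocode.basis (Nat.shiftRight m 1) 0) x)) = true := by
  decide +kernel

theorem ΦC.sum_eq_zero {w : GolayPt → ZMod 2} (h : ∀ x ∈ Cocode.basis, ∑ p ∈ ofMask x, w p = 0)
    {s : Finset GolayPt} (hs : ΦC s) : ∑ p ∈ s, w p = 0 := by
  obtain ⟨m, hm, rfl⟩ := hs.1.exists_enc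
  have h1 := allN_spec span_chk m hm
  rw [force_eq, orB_eq, Bool.or_eq_true, Nat.ble_eq, Nat.beq_eq] at h1
  rcases h1 with h1 | h1
  · refine (hs.2 ?_).elim
    rw [mem_ofMask]
    exact Nat.testBit_of_two_pow_le_and_two_pow_add_one_gt (i := 23) h1 (enc_lt m)
  · have := val_xorSel (R := 1) (w := fun _ => w) (l := Cocode.basis)
      (fun F hF => by simpa [val] using h F hF) (Nat.shiftRight m 1) 0
    rw [h1, val_zero] at this
    simpa [val] using this

theorem dual_chk : (allN 4096 fun z => orB (Nat.beq z 0) (orB (Nat.beq z 2048) (Bool.not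
    (allL Cocode.basis fun b => Nat.beq (Nat.mod (pc (Nat.land b (Nat.mul z 4096))) 2) 0)))) =
    true := by decide +kernel

theorem dual_ΦC {w : GolayPt → ZMod 2} :
    (∀ s, ΦC s → ∑ p ∈ s, w p = 0) ↔ (w ∈ golayCode ∨ w + Pi.single none 1 ∈ golayCode) := by
  constructor
  · intro h
    obtain ⟨x, hx, e⟩ := exists_mask (support₂ w)
    have hw : w = wd (ofMask x) := by rw [e, wd_support]
    have h1 : x ^^^ enc x < 2 ^ 24 := Nat.xor_lt_two_pow hx (enc_lt x)
    have h2 : (x ^^^ enc x) % 2 ^ 12 = 0 := by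
      apply Nat.eq_of_testBit_eq
      intro i
      rw [Nat.testBit_mod_two_pow]
      by_cases hi : i < 12
      · simp [testBit_xor_enc x hi]
      · simp [hi]
    obtain ⟨z, hz⟩ : ∃ z, x ^^^ enc x = z * 4096 := ⟨(x ^^^ enc x) / 4096, by omega⟩
    have h3 := allN_spec dual_chk z (by omega)
    have h4 : (allL Cocode.basis fun b =>
        Nat.beq (Nat.mod (pc (Nat.land b (Nat.mul z 4096))) 2) 0) = true := by
      have : ∀ l : List ℕ, (∀ b ∈ l, b ∈ Cocode.basis) → (allL l fun b =>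
          Nat.beq (Nat.mod (pc (Nat.land b (Nat.mul z 4096))) 2) 0) = true := by
        intro l hl
        induction l with
        | nil => rfl
        | cons b l ih =>
          show andB _ _ = true
          rw [andB_eq, Bool.and_eq_true]
          refine ⟨?_, ih fun b hb => hl b (List.mem_cons_of_mem _ hb)⟩
          have hb := okC_spec (allL_spec Cocode.basis_ok b (hl b List.mem_cons_self))
          have h5 := h _ hb
          have h6 := sum_cw hb.1 ((cw_iff _).1 (cw_enc x))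
          have h7 : ∑ p ∈ ofMask b, wd (ofMask (z * 4096)) p = 0 := by
            rw [← hz, ofMask_xor, wd_symmDiff]
            simp only [Pi.add_apply, Finset.sum_add_distrib]
            rw [h6, ← hw, h5, add_zero]
          rw [sum_wd, ← ofMask_and, card_ofMask, ZMod.natCast_eq_zero_iff_even,
            Nat.even_iff] at h7
          rw [Nat.beq_eq]; exact h7
      exact this _ fun _ hb => hb
    rw [h4] at h3
    simp only [orB_eq, Bool.or_eq_true, Nat.beq_eq, Bool.not_true, Bool.false_eq_true,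
      or_false] at h3
    have hx' : x = enc x ^^^ z * 4096 := by
      rw [← hz, Nat.xor_comm x, ← Nat.xor_assoc, Nat.xor_self, Nat.zero_xor]
    have hc := (cw_iff _).1 (cw_enc x)
    rcases h3 with rfl | rfl
    · left; rw [hw, hx']; simpa using hc
    · right
      rw [hw, hx', ofMask_xor, wd_symmDiff, show 2048 * 4096 = 2 ^ 23 from rfl,
        ofMask_two_pow (by norm_num), add_assoc]
      have : wd {pt 23} + Pi.single none 1 = 0 := by decide
      rw [this, add_zero]; exact hc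
  · rintro (h | h) s hs
    · exact sum_cw hs.1 h
    · have := sum_cw hs.1 h
      simp only [Pi.add_apply, Finset.sum_add_distrib] at this
      rwa [Finset.sum_pi_single', if_neg hs.2, add_zero] at this

/-- a context of cocode type -/
structure IsCo (c : Ctx E) (N : Subgroup E) : Prop where
  ker : ∀ e, c.π e = 1 ↔ e ∈ N
  range : c.π.range = Spor.M23
  phi : c.Φ = ΦC
  sep : ∀ a ∈ c.Δ, a = 1
  onto : ∀ w : GolayPt → ZMod 2, ∃ k, c.π k = 1 ∧ ∀ s, ΦC s → c.L s k = ∑ p ∈ s, w p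

theorem exists_isCo (N : Subgroup E) [hN : N.Normal]
    (φ : E ⧸ N ≃* ↥Spor.M23) (θ : (GolayPt → ZMod 2) →+ Additive ↥N)
    (hsurj : Function.Surjective θ)
    (hker : ∀ w : GolayPt → ZMod 2, θ w = 0 ↔ (w ∈ golayCode ∨ w + Pi.single none 1 ∈ golayCode))
    (hθ : ∀ (g : E) (w : GolayPt → ZMod 2),
      ((θ (w ∘ ⇑(((φ (QuotientGroup.mk g) : ↥Spor.M23) : Equiv.Perm GolayPt)⁻¹))).toMul : E)
        = g * ((θ w).toMul : E) * g⁻¹) :
    ∃ c : Ctx E, IsCo c N ∧ c.π = prj N φ ∧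
      ∀ w s, ΦC s → c.L s ((θ w).toMul : E) = ∑ p ∈ s, w p := by
  classical
  have : ∀ a : E, ∃ w, a ∈ N → ((θ w).toMul : E) = a := by
    intro a
    by_cases h : a ∈ N
    · obtain ⟨w, hw⟩ := hsurj (Additive.ofMul ⟨a, h⟩)
      exact ⟨w, fun _ => by rw [hw]; rfl⟩
    · exact ⟨0, fun h' => (h h').elim⟩
  choose ω hω using this
  have rep : ∀ w s, ΦC s → ∑ p ∈ s, ω ((θ w).toMul : E) p = ∑ p ∈ s, w p := by
    intro w s hs
    have h1 : θ (ω ((θ w).toMul : E)) = θ w :=
      Additive.toMul.injective (Subtype.ext (hω _ (θ w).toMul.2))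
    have h2 := dual_ΦC.2 ((hker (ω ((θ w).toMul : E) - w)).1 (by rw [map_sub, h1, sub_self])) s hs
    simp only [Pi.sub_apply, Finset.sum_sub_distrib] at h2
    exact sub_eq_zero.1 h2
  have hr := range_prj N φ
  let c : Ctx E :=
    { π := prj N φ
      ω := ω
      Φ := ΦC
      inv := fun e s hs => hs.smul (hr ▸ ⟨e, rfl⟩)
      mul := fun a b s ha hb hs => by
        rw [prj_eq_one] at ha hb
        have := rep (ω a + ω b) s hs
        rw [map_add, toMul_add, Subgroup.coe_mul, hω a ha, hω b hb] at this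
        rw [this, ← Finset.sum_add_distrib]; rfl
      conj := fun e a s ha hs => by
        rw [prj_eq_one] at ha
        have h1 := hθ e⁻¹ (ω a)
        rw [← prj_apply, map_inv, inv_inv, inv_inv, hω a ha] at h1
        rw [← h1, rep _ s hs, sum_smul_set]; rfl }
  refine ⟨c, ⟨fun _ => prj_eq_one, hr, rfl, fun a ha => ?_,
    fun w => ⟨_, prj_eq_one.2 (θ w).toMul.2, rep w⟩⟩, rfl, rep⟩
  rw [← hω a (prj_eq_one.1 ha.1), (hker _).2 (dual_ΦC.1 ha.2)]; rfl

theorem IsCo.tails {c : Ctx E} {N : Subgroup E} (h : IsCo c N)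
    (hns : ∀ H : Subgroup E, H ⊓ N = ⊥ → H ⊔ N ≠ ⊤) :
    ∃ ℓ, c.Lift gens ℓ ∧ ∀ r < 28, ∀ x ∈ Cocode.basis, c.L (ofMask x) (tail ℓ (rel rels r)) =
      (pc (x &&& (Cocode.t0 >>> (24 * r))) : ZMod 2) := by
  obtain ⟨ℓ, hl, ε, he⟩ := c.main rels_ok (okΦ := okC) (okW := fun _ => true)
    (fun _ hx => h.phi ▸ okC_spec hx)
    (fun y _ => by
      obtain ⟨k, k1, k2⟩ := h.onto (wd (ofMask y))
      exact ⟨k, k1, fun s hs => by rw [k2 s (h.phi ▸ hs), sum_wd]⟩)
    (nrm := fun x => x) (fun x a _ hx => ⟨hx, rfl⟩)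
    (c.exists_lift h.range) Cocode.items_ok Cocode.cy_ok Cocode.cx_ok Cocode.basis_ok Cocode.tgt_ok
  have hε : ε = 0 ∨ ε = 1 := by clear he; revert ε; decide
  rcases hε with rfl | rfl
  · obtain ⟨H, h1, h2⟩ := Split.compl h.ker h.sep (c.split_of_tails hl pc_rels nfs_ok
      (by rw [h.range, card_M23]) fun r hr => ⟨c.π_tail hl rels_ok r, fun s hs =>
        ΦC.sum_eq_zero (fun x hx => (he r hr x hx).trans (zero_mul _)) (h.phi ▸ hs)⟩)
    exact (hns H h1 h2).elim
  · exact ⟨ℓ, hl, fun r hr x hx => (he r hr x hx).trans (one_mul _)⟩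

theorem map_ev {F : Type*} [Group F] (f : E →* F) (ℓ : ℕ → E) (w : List ℕ) :
    f (ev ℓ w) = ev (fun x => f (ℓ x)) w := by
  induction w with
  | nil => simp
  | cons x w ih => simp [ih]

theorem map_tail {F : Type*} [Group F] (f : E →* F) (ℓ : ℕ → E) (r : Rel) :
    f (tail ℓ r) = tail (fun x => f (ℓ x)) r := by
  simp [tail, map_ev]

theorem IsCo.iso {c : Ctx E} {N : Subgroup E} (h : IsCo c N)
    (hns : ∀ H : Subgroup E, H ⊓ N = ⊥ → H ⊔ N ≠ ⊤) {E' : Type*} [Group E'] {c' : Ctx E'}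
    {N' : Subgroup E'} (h' : IsCo c' N') (hns' : ∀ H : Subgroup E', H ⊓ N' = ⊥ → H ⊔ N' ≠ ⊤) :
    Nonempty (E ≃* E') := by
  obtain ⟨ℓ, hl, ht⟩ := h.tails hns
  obtain ⟨ℓ', hl', ht'⟩ := h'.tails hns'
  let D : Subgroup (E × E') :=
    (c.π.comp (MonoidHom.fst E E')).eqLocus (c'.π.comp (MonoidHom.snd E E'))
  let f : D →* E := (MonoidHom.fst E E').comp D.subtype
  let f' : D →* E' := (MonoidHom.snd E E').comp D.subtype
  have hD : ∀ d : D, c'.π (f' d) = c.π (f d) := fun d => d.2.symm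
  let d : Ctx D :=
    { π := c.π.comp f
      ω := fun a => c.ω (f a) + c'.ω (f' a)
      Φ := ΦC
      inv := fun e s hs => hs.smul (h.range ▸ ⟨f e, rfl⟩)
      mul := fun a b s ha hb hs => by
        simp only [Pi.add_apply, Finset.sum_add_distrib, map_mul]
        rw [c.mul _ _ s ha hb (h.phi ▸ hs),
          c'.mul _ _ s ((hD a).trans ha) ((hD b).trans hb) (h'.phi ▸ hs)]
        ring
      conj := fun e a s ha hs => by
        simp only [Pi.add_apply, Finset.sum_add_distrib, map_mul, map_inv]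
        rw [c.conj _ _ s ha (h.phi ▸ hs), c'.conj _ _ s ((hD a).trans ha) (h'.phi ▸ hs), hD]
        rfl }
  have dL : ∀ s a, d.L s a = c.L s (f a) + c'.L s (f' a) := fun s a => Finset.sum_add_distrib
  have sur : ∀ e : E, ∃ a : D, f a = e := by
    intro e
    obtain ⟨e', he⟩ : c.π e ∈ c'.π.range := by rw [h'.range, ← h.range]; exact ⟨e, rfl⟩
    exact ⟨⟨(e, e'), he.symm⟩, rfl⟩
  have sur' : ∀ e : E', ∃ a : D, f' a = e := by
    intro e'
    obtain ⟨e, he⟩ : c'.π e' ∈ c.π.range := by rw [h.range, ← h'.range]; exact ⟨e', rfl⟩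
    exact ⟨⟨(e, e'), he⟩, rfl⟩
  let m : ℕ → D := fun x => ⟨(ℓ x, ℓ' x), pack_inj ((hl x).trans (hl' x).symm)⟩
  have hm : d.Lift gens m := hl
  have hrange : d.π.range = Spor.M23 := by
    rw [← h.range]
    apply le_antisymm
    · rintro _ ⟨a, rfl⟩; exact ⟨f a, rfl⟩
    · rintro _ ⟨e, rfl⟩
      obtain ⟨a, rfl⟩ := sur e
      exact ⟨a, rfl⟩
  obtain ⟨Γ, g1, g2⟩ := d.split_of_tails hm pc_rels nfs_ok (by rw [hrange, card_M23])
    fun r hr => ⟨d.π_tail hm rels_ok r, fun s hs => ΦC.sum_eq_zero (fun x hx => by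
      have := dL (ofMask x) (tail m (rel rels r))
      rw [map_tail, map_tail] at this
      refine this.trans ?_
      exact (congrArg₂ (· + ·) (ht r hr x hx) (ht' r hr x hx)).trans
        (CharTwo.add_self_eq_zero _)) hs⟩
  have b1 : Function.Bijective (f.comp Γ.subtype) := by
    constructor
    · rw [injective_iff_map_eq_one]
      rintro ⟨a, ha⟩ e
      have e : f a = 1 := e
      have p1 : d.π a = 1 := by show c.π (f a) = 1; rw [e, map_one]
      have p2 := (g2 a p1).1 ha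
      have p3 : f' a = 1 := h'.sep _ ⟨(hD a).trans p1, fun s hs => by
        have hs' : ΦC s := h'.phi ▸ hs
        have := p2.2 s hs'
        rwa [dL, e, c.L_one (h.phi ▸ hs'), zero_add] at this⟩
      exact Subtype.ext (Subtype.ext (Prod.ext e p3))
    · intro e
      obtain ⟨a, rfl⟩ := sur e
      obtain ⟨k, k1, k2⟩ := g1 a
      obtain ⟨k', q1, q2⟩ := h'.onto (c.ω (f k))
      let u : D := ⟨(f k, k'), k1.trans q1.symm⟩
      have hu : u ∈ Γ := (g2 u k1).2 ⟨k1, fun s hs => by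
        rw [dL]
        exact (congrArg _ (q2 s hs)).trans (CharTwo.add_self_eq_zero _)⟩
      exact ⟨⟨u * (k⁻¹ * a), Γ.mul_mem hu k2⟩, by
        show f (u * (k⁻¹ * a)) = _
        rw [map_mul, map_mul, map_inv, show f u = f k from rfl]; simp⟩
  have b2 : Function.Bijective (f'.comp Γ.subtype) := by
    constructor
    · rw [injective_iff_map_eq_one]
      rintro ⟨a, ha⟩ e
      have e : f' a = 1 := e
      have p1 : d.π a = 1 := by show c.π (f a) = 1; rw [← hD, e, map_one]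
      have p2 := (g2 a p1).1 ha
      have p3 : f a = 1 := h.sep _ ⟨p1, fun s hs => by
        have hs' : ΦC s := h.phi ▸ hs
        have := p2.2 s hs'
        rwa [dL, e, c'.L_one (h'.phi ▸ hs'), add_zero] at this⟩
      exact Subtype.ext (Subtype.ext (Prod.ext p3 e))
    · intro e
      obtain ⟨a, rfl⟩ := sur' e
      obtain ⟨k, k1, k2⟩ := g1 a
      obtain ⟨k', q1, q2⟩ := h.onto (c'.ω (f' k))
      let u : D := ⟨(k', f' k), q1.trans ((hD k).trans k1).symm⟩
      have hu : u ∈ Γ := (g2 u q1).2 ⟨q1, fun s hs => by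
        rw [dL]
        exact (congrArg (· + _) (q2 s hs)).trans (CharTwo.add_self_eq_zero _)⟩
      exact ⟨⟨u * (k⁻¹ * a), Γ.mul_mem hu k2⟩, by
        show f' (u * (k⁻¹ * a)) = _
        rw [map_mul, map_mul, map_inv, show f' u = f' k from rfl]; simp⟩
  exact ⟨(MulEquiv.ofBijective _ b1).symm.trans (MulEquiv.ofBijective _ b2)⟩

end Cfsg.Agent.Coh
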