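import Cfsg.Agent.Lib.Coh.Ext
import Cfsg.Agent.Lib.Golay.Fam

/-! Sign changes on pairs of points indexed by code words. -/

set_option autoImplicit false

namespace Cfsg.Agent.Coh

open Cfsg.Agent.PG Cfsg.Agent.Golay Equiv
open scoped Pointwise symmDiff

/-- the other point of the pair -/
def flp (i : ℕ) : ℕ := if i % 2 = 0 then i + 1 else i - 1

theorem flp_div (i : ℕ) : flp i / 2 = i / 2 := by unfold flp; split_ifs <;> omega
theorem flp_ne (i : ℕ) : flp i ≠ i := by unfold flp; split_ifs <;> omega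
theorem eq_flp {a b : ℕ} (h : a / 2 = b / 2) (hne : a ≠ b) : a = flp b := by
  unfold flp; split_ifs <;> omega
theorem flp_flp (i : ℕ) : flp (flp i) = i :=
  (eq_flp (flp_div i).symm (flp_ne i).symm).symm

/-- the columns come in pairs -/
noncomputable def pairB (S : List ℕ) : Bool :=
  andB (allL S fun P => Nat.blt P (Nat.shiftLeft 1 1024)) <|
  allN 512 fun k => force (colVal S (Nat.mul 2 k)) fun a =>
    andB (Nat.beq a (colVal S (Nat.add (Nat.mul 2 k) 1))) <| andB (okC a) <|
      iteB (andB (Nat.ble 16 k) (Nat.blt k 269))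
        (orB (Nat.beq k 268) (Nat.blt a (colVal S (Nat.add (Nat.mul 2 k) 2)))) (Nat.beq a 0)

/-- consequences of `pairB` -/
structure Pairs (S : List ℕ) : Prop where
  big : ∀ i, 1024 ≤ i → XS S i = ∅
  small : ∀ i < 24, XS S i = ∅
  phi : ∀ i, ΦC (XS S i)
  flp : ∀ i, XS S (flp i) = XS S i
  inj : ∀ i j, XS S i ≠ ∅ → XS S i = XS S j → i / 2 = j / 2

theorem pairB_spec {S : List ℕ} (h : pairB S = true) : Pairs S := by
  unfold pairB at h
  rw [andB_eq, Bool.and_eq_true] at h
  have hbig : ∀ i, 1024 ≤ i → XS S i = ∅ := by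
    intro i hi
    ext p
    rw [mem_XS]
    rcases nthD_mem_or 0 S (idx p) with e | e
    · simp [e]
    · have := allL_spec h.1 _ e
      rw [Nat.blt_eq, show Nat.shiftLeft 1 1024 = 2 ^ 1024 from Nat.one_shiftLeft _] at this
      rw [Nat.testBit_lt_two_pow (this.trans_le (Nat.pow_le_pow_right (by norm_num) hi))]
      simp
  have h2 : ∀ k < 512, colVal S (2 * k) = colVal S (2 * k + 1) ∧ okC (colVal S (2 * k)) = true ∧
      (16 ≤ k → k < 268 → colVal S (2 * k) < colVal S (2 * (k + 1))) ∧
      (colVal S (2 * k) ≠ 0 → 16 ≤ k ∧ k < 269) := by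
    intro k hk
    have := allN_spec h.2 k hk
    simp only [force_eq, andB_eq, Bool.and_eq_true, Nat.beq_eq] at this
    obtain ⟨a1, a2, a3⟩ := this
    refine ⟨a1, a2, fun b1 b2 => ?_, fun b => ?_⟩
    · rw [show (Nat.ble 16 k && Nat.blt k 269) = true by
        simp only [Bool.and_eq_true, Nat.ble_eq, Nat.blt_eq]; omega] at a3
      simp only [iteB_true, orB_eq, Bool.or_eq_true, Nat.beq_eq, Nat.blt_eq] at a3
      rcases a3 with a3 | a3
      · omega
      · exact a3
    · cases e : (Nat.ble 16 k && Nat.blt k 269)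
      · rw [e, iteB_false, Nat.beq_eq] at a3
        exact (b a3).elim
      · simpa using e
  have h3 : ∀ i < 1024, colVal S i = colVal S (2 * (i / 2)) := by
    intro i hi
    rcases Nat.mod_two_eq_zero_or_one i with e | e
    · congr 1; omega
    · rw [(h2 (i / 2) (by omega)).1]; congr 1; omega
  have h4 : ∀ i j, i / 2 = j / 2 → XS S i = XS S j := by
    intro i j e
    by_cases hi : i < 1024
    · rw [XS, XS, h3 i hi, h3 j (by omega), e]
    · rw [hbig i (by omega), hbig j (by omega)]
  have mono : ∀ d k, 16 ≤ k → k + d + 1 < 269 → colVal S (2 * k) < colVal S (2 * (k + d + 1)) := by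
    intro d
    induction d with
    | zero => intro k h1 h5; exact (h2 k (by omega)).2.2.1 h1 (by omega)
    | succ d ih =>
      intro k h1 h5
      exact (ih k h1 (by omega)).trans ((h2 (k + d + 1) (by omega)).2.2.1 (by omega) (by omega))
  refine ⟨hbig, fun i hi => ?_, fun i => ?_, fun i => h4 _ _ (flp_div i), fun i j h0 e => ?_⟩
  · rw [XS, h3 i (by omega)]
    by_contra hne
    have := (h2 (i / 2) (by omega)).2.2.2 fun e => hne (by rw [e, ofMask_zero])
    omega
  · by_cases hi : i < 1024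
    · rw [XS, h3 i hi]; exact okC_spec (h2 _ (by omega)).2.1
    · rw [hbig i (by omega)]; exact ⟨cw_empty, by simp⟩
  · have hi : i < 1024 := by by_contra hi; exact h0 (hbig i (by omega))
    have hj : j < 1024 := by by_contra hj; exact h0 (e.trans (hbig j (by omega)))
    rw [XS, h3 i hi] at h0
    rw [XS, XS, h3 i hi, h3 j hj] at e
    have lt : ∀ k < 512, colVal S (2 * k) < 2 ^ 24 := fun k hk => by
      have := (h2 k hk).2.1
      unfold okC at this
      rw [andB_eq, Bool.and_eq_true] at this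
      exact isCw_lt this.1
    have e' := ofMask_inj (lt _ (by omega)) (lt _ (by omega)) e
    have n1 : colVal S (2 * (i / 2)) ≠ 0 := fun e => h0 (by rw [e, ofMask_zero])
    have a1 := (h2 _ (by omega)).2.2.2 n1
    have a2 := (h2 _ (by omega)).2.2.2 (e' ▸ n1)
    rcases lt_trichotomy (i / 2) (j / 2) with h5 | h5 | h5
    · have := mono (j / 2 - i / 2 - 1) (i / 2) a1.1 (by omega)
      rw [show i / 2 + (j / 2 - i / 2 - 1) + 1 = j / 2 by omega] at this
      omega
    · exact h5
    · have := mono (i / 2 - j / 2 - 1) (j / 2) a2.1 (by omega)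
      rw [show j / 2 + (i / 2 - j / 2 - 1) + 1 = i / 2 by omega] at this
      omega

/-- the sign change of a word, as a function -/
noncomputable def tf (S : List ℕ) (w : GolayPt → ZMod 2) (i : ℕ) : ℕ :=
  if ∑ p ∈ XS S i, w p = 0 then i else flp i

theorem Pairs.XS_tf {S : List ℕ} (h : Pairs S) (w : GolayPt → ZMod 2) (i : ℕ) :
    XS S (tf S w i) = XS S i := by
  unfold tf; split_ifs
  · rfl
  · exact h.flp i

theorem Pairs.tf_add {S : List ℕ} (h : Pairs S) (w w' : GolayPt → ZMod 2) (i : ℕ) :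
    tf S (w + w') i = tf S w (tf S w' i) := by
  have e : tf S w (tf S w' i) =
      if ∑ p ∈ XS S i, w p = 0 then tf S w' i else Coh.flp (tf S w' i) := by
    rw [← h.XS_tf w' i]; rfl
  rw [e]
  simp only [tf, Pi.add_apply, Finset.sum_add_distrib]
  generalize ∑ p ∈ XS S i, w p = a
  generalize ∑ p ∈ XS S i, w' p = b
  have ha : a = 0 ∨ a = 1 := by revert a; decide
  have hb : b = 0 ∨ b = 1 := by revert b; decide
  rcases ha with rfl | rfl <;> rcases hb with rfl | rfl <;>
    simp [flp_flp, CharTwo.add_self_eq_zero]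

theorem tf_zero (S : List ℕ) (i : ℕ) : tf S 0 i = i := by simp [tf]

/-- the sign change of a word -/
noncomputable def Pairs.T {S : List ℕ} (h : Pairs S) (w : GolayPt → ZMod 2) : Perm ℕ :=
  Function.Involutive.toPerm (tf S w) fun i => by
    rw [← h.tf_add, show w + w = 0 from funext fun _ => CharTwo.add_self_eq_zero _, tf_zero]

theorem Pairs.T_apply {S : List ℕ} (h : Pairs S) (w : GolayPt → ZMod 2) (i : ℕ) :
    h.T w i = tf S w i := rfl

theorem Pairs.T_add {S : List ℕ} (h : Pairs S) (w w' : GolayPt → ZMod 2) :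
    h.T (w + w') = h.T w * h.T w' := Equiv.ext (h.tf_add w w')

theorem Pairs.T_eq_one {S : List ℕ} (h : Pairs S) {w : GolayPt → ZMod 2} :
    h.T w = 1 ↔ ∀ i, ∑ p ∈ XS S i, w p = 0 := by
  rw [Equiv.ext_iff]
  refine forall_congr' fun i => ?_
  rw [h.T_apply, tf]
  split_ifs with e
  · simp [e]
  · simp [e, flp_ne]

theorem Pairs.T_conj {S : List ℕ} (h : Pairs S) {σ : Perm GolayPt} {g : Perm ℕ}
    (hg : ∀ i, σ • XS S i = XS S (g i)) (w : GolayPt → ZMod 2) :
    h.T (w ∘ ⇑σ⁻¹) = g * h.T w * g⁻¹ := by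
  rw [eq_mul_inv_iff_mul_eq]
  ext i
  simp only [Perm.mul_apply, h.T_apply, tf]
  rw [← hg, sum_smul_set]
  simp only [Function.comp_apply, Perm.coe_inv, symm_apply_apply]
  split_ifs with e
  · rfl
  · symm
    refine eq_flp (h.inj _ _ ?_ ?_) fun e' => flp_ne i (g.injective e')
    · rw [← hg, h.flp]
      intro e2
      apply e
      rw [Finset.smul_finset_eq_empty.1 e2, Finset.sum_empty]
    · rw [← hg, ← hg, h.flp]

/-- the product is the sign change of `u` -/
noncomputable def isT (A : List Net) (S l : List ℕ) (u : ℕ) : Bool :=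
  andB (allN 9 fun k => Nat.beq (papp1 A l (plane (Nat.succ k) 10)) (plane (Nat.succ k) 10)) <|
  force (papp1 A l (plane 0 10)) fun m => allN 1024 fun i =>
    Bool.xor (Bool.xor (bit m i) (bit i 0)) (Nat.beq (Nat.mod (pc (Nat.land (colVal S i) u)) 2) 0)

theorem Pairs.isT_spec {S : List ℕ} (h : Pairs S) {A : List Net} (hA : okA (2 ^ 10) A = true)
    {l : List ℕ} {u : ℕ} (ht : isT A S l u = true) : pp A l = h.T (wd (ofMask u)) := by
  unfold isT at ht
  rw [andB_eq, Bool.and_eq_true, force_eq] at ht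
  ext i
  rw [h.T_apply, tf]
  by_cases hi : i < 1024
  swap
  · rw [h.big i (by omega), supp_pp hA l i (by omega)]; simp
  have hl : pp A l i < 2 ^ 10 := (supp_pp hA l).lt hi
  have h1 : pp A l i / 2 = i / 2 := by
    apply Nat.eq_of_testBit_eq
    intro k
    rw [← Nat.testBit_succ, ← Nat.testBit_succ]
    by_cases hk : k < 9
    · have := congrArg (fun v => v.testBit i) (Nat.eq_of_beq_eq_true (allN_spec ht.1 k hk))
      simp only [testBit_papp1 hA, testBit_plane, hl, show i < 2 ^ 10 from hi, decide_true,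
        Bool.true_and] at this
      exact this
    · have p : 2 ^ 10 ≤ 2 ^ (k + 1) := Nat.pow_le_pow_right (by norm_num) (by omega)
      rw [Nat.testBit_lt_two_pow (hl.trans_le p),
        Nat.testBit_lt_two_pow ((show i < 2 ^ 10 from hi).trans_le p)]
  have h2 := allN_spec ht.2 i hi
  rw [bit_eq, bit_eq, testBit_papp1 hA, testBit_plane] at h2
  simp only [hl, decide_true, Bool.true_and, Nat.testBit_zero] at h2
  have e : (∑ p ∈ XS S i, wd (ofMask u) p = 0) ↔
      Nat.beq (Nat.mod (pc (Nat.land (colVal S i) u)) 2) 0 = true := by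
    rw [sum_wd, XS, ← ofMask_and, card_ofMask, ZMod.natCast_eq_zero_iff_even, Nat.even_iff,
      Nat.beq_eq]; rfl
  split_ifs with e1
  · rw [e.1 e1] at h2
    have : pp A l i % 2 = 1 ↔ i % 2 = 1 := by simpa using h2
    omega
  · rw [Bool.eq_false_iff.2 (mt e.2 e1)] at h2
    have : ¬(pp A l i % 2 = 1 ↔ i % 2 = 1) := by simpa using h2
    exact eq_flp h1 (by omega)

end Cfsg.Agent.Coh
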