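import Cfsg.Agent.Lib.Golay.Util2
import Cfsg.Prelude.Def_Spor_Mathieu

/-! Packed permutations of the 24 points and linear forms in blocks of 24 bits. -/

set_option autoImplicit false

namespace Cfsg.Agent.Coh

open Cfsg.Agent.PG Cfsg.Agent.Golay Equiv
open scoped Pointwise symmDiff

/-- pack `f 0, …, f (n-1)` in base 32 -/
noncomputable def build (f : ℕ → ℕ) (n : ℕ) : ℕ :=
  Nat.rec (motive := fun _ => ℕ) 0 (fun i r => Nat.add r (Nat.shiftLeft (f i) (Nat.mul 5 i))) n

/-- digit `i` in base 32 -/
def get (a i : ℕ) : ℕ := Nat.land (Nat.shiftRight a (Nat.mul 5 i)) 31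

theorem build_succ (f : ℕ → ℕ) (n : ℕ) : build f (n + 1) = build f n + f n * 32 ^ n := by
  show build f n + f n <<< (5 * n) = _
  rw [Nat.shiftLeft_eq, pow_mul]; rfl

theorem get_eq (a i : ℕ) : get a i = a / 32 ^ i % 32 := by
  show (a >>> (5 * i)) &&& (2 ^ 5 - 1) = _
  rw [Nat.and_two_pow_sub_one_eq_mod, Nat.shiftRight_eq_div_pow, pow_mul]; rfl

theorem build_lt {f : ℕ → ℕ} {n : ℕ} (h : ∀ i < n, f i < 32) : build f n < 32 ^ n := by
  induction n with
  | zero => show 0 < _; positivity
  | succ n ih =>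
    rw [build_succ, pow_succ]
    have h1 := ih fun i hi => h i (by omega)
    have h2 : f n ≤ 31 := by have := h n (by omega); omega
    nlinarith [Nat.mul_le_mul_right (32 ^ n) h2]

theorem get_build {f : ℕ → ℕ} {n : ℕ} (h : ∀ i < n, f i < 32) {i : ℕ} (hi : i < n) :
    get (build f n) i = f i := by
  induction n with
  | zero => omega
  | succ n ih =>
    have h' : ∀ i < n, f i < 32 := fun i hi => h i (by omega)
    rw [build_succ, get_eq]
    rcases Nat.lt_succ_iff_lt_or_eq.1 hi with h1 | rfl
    · obtain ⟨k, rfl⟩ : ∃ k, n = i + 1 + k := ⟨n - (i + 1), by omega⟩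
      rw [← ih h' h1, get_eq, show f (i + 1 + k) * 32 ^ (i + 1 + k) =
        (f (i + 1 + k) * 32 ^ k * 32) * 32 ^ i by ring, Nat.add_mul_div_right _ _ (by positivity),
        Nat.add_mul_mod_self_right]
    · rw [Nat.add_mul_div_right _ _ (by positivity), Nat.div_eq_of_lt (build_lt h'), zero_add,
        Nat.mod_eq_of_lt (h i hi)]

theorem build_congr {f g : ℕ → ℕ} {n : ℕ} (h : ∀ i < n, f i = g i) : build f n = build g n := by
  induction n with
  | zero => rfl
  | succ n ih => rw [build_succ, build_succ, ih fun i hi => h i (by omega), h n (by omega)]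

/-- the packed form of a permutation -/
noncomputable def pack (σ : Perm GolayPt) : ℕ := build (fun i => idx (σ (pt i))) 24

theorem get_pack (σ : Perm GolayPt) {i : ℕ} (hi : i < 24) : get (pack σ) i = idx (σ (pt i)) :=
  get_build (fun _ _ => (idx_lt _).trans (by norm_num)) hi

theorem pack_lt (σ : Perm GolayPt) : pack σ < 2 ^ 120 :=
  build_lt (n := 24) fun _ _ => (idx_lt _).trans (by norm_num)

theorem pack_inj {σ τ : Perm GolayPt} (h : pack σ = pack τ) : σ = τ := by
  ext p : 1
  refine forall_pt (P := fun p => σ p = τ p) (fun i hi => idx_inj ?_) p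
  rw [← get_pack σ hi, ← get_pack τ hi, h]

/-- product of packed permutations -/
noncomputable def mulN (a b : ℕ) : ℕ := build (fun i => get a (get b i)) 24

theorem mulN_pack (σ τ : Perm GolayPt) : mulN (pack σ) (pack τ) = pack (σ * τ) :=
  build_congr fun i hi => by rw [get_pack τ hi, get_pack σ (idx_lt _), pt_idx]; rfl

/-- the packed identity -/
def idN : ℕ := 0xbdab49ca307b9ac5a928398a418820

theorem pack_one : pack 1 = idN := by
  have : pack 1 = build (fun i => i) 24 := build_congr fun i hi => idx_pt i hi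
  rw [this]; decide +kernel

/-- image of a mask -/
noncomputable def actN (a x : ℕ) : ℕ :=
  Nat.rec (motive := fun _ => ℕ) 0
    (fun i r => Nat.lor r (Nat.shiftLeft (Nat.land (Nat.shiftRight x i) 1) (get a i))) 24

theorem testBit_one_shift (x i g j : ℕ) :
    (((x >>> i) &&& 1) <<< g).testBit j = (x.testBit i && decide (j = g)) := by
  rw [Nat.and_one_is_mod, Nat.testBit_shiftLeft]
  have : x.testBit i = decide ((x >>> i) % 2 = 1) := by
    rw [Nat.testBit, Nat.one_and_eq_mod_two]
    rcases Nat.mod_two_eq_zero_or_one (x >>> i) with h | h <;> simp [h]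
  rw [this]
  rcases Nat.mod_two_eq_zero_or_one (x >>> i) with h | h <;> rw [h]
  · simp
  · by_cases e : j = g
    · subst e; simp
    · by_cases e2 : g ≤ j
      · have : Nat.testBit 1 (j - g) = false := by
          rw [show (1 : ℕ) = 2 ^ 0 from rfl, Nat.testBit_two_pow]; simp; omega
        simp [e, this]
      · simp [e, e2]

theorem ofMask_actN (σ : Perm GolayPt) (x : ℕ) : ofMask (actN (pack σ) x) = σ • ofMask x := by
  have key : ∀ n ≤ 24, ∀ j, (Nat.rec (motive := fun _ => ℕ) 0 (fun i r => Nat.lor r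
      (Nat.shiftLeft (Nat.land (Nat.shiftRight x i) 1) (get (pack σ) i))) n).testBit j = true ↔
      ∃ i < n, x.testBit i = true ∧ j = idx (σ (pt i)) := by
    intro n
    induction n with
    | zero => intro _ j; simp
    | succ n ih =>
      intro hn j
      show (_ ||| (((x >>> n) &&& 1) <<< get (pack σ) n)).testBit j = true ↔ _
      rw [Nat.testBit_or, Bool.or_eq_true, ih (by omega), testBit_one_shift, get_pack σ (by omega)]
      simp only [Bool.and_eq_true, decide_eq_true_eq]
      constructor
      · rintro (⟨i, hi, h⟩ | h)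
        · exact ⟨i, by omega, h⟩
        · exact ⟨n, by omega, h⟩
      · rintro ⟨i, hi, h⟩
        rcases Nat.lt_succ_iff_lt_or_eq.1 hi with h1 | rfl
        · exact Or.inl ⟨i, h1, h⟩
        · exact Or.inr h
  ext p
  rw [mem_ofMask, mem_smul_iff, mem_ofMask]
  refine (key 24 le_rfl _).trans ⟨?_, fun h => ⟨idx (σ⁻¹ p), idx_lt _, h, by simp [pt_idx]⟩⟩
  rintro ⟨i, hi, h1, h2⟩
  rw [idx_inj h2]
  simpa [idx_pt i hi] using h1

/-- `m` is the packed form of an element of `M23` -/
noncomputable def m23B (m : ℕ) : Bool :=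
  andB (allN 24 fun i => andB (Nat.blt (get m i) 24)
    (allN i fun j => Bool.not (Nat.beq (get m i) (get m j)))) <|
  andB (Nat.beq (build (get m) 24) m) <| andB (Nat.beq (get m 23) 23) <|
  allN 12 fun j => isCw (actN m (enc (Nat.shiftLeft 1 j)))

theorem m23B_spec {m : ℕ} (h : m23B m = true) : ∃ σ ∈ Spor.M23, pack σ = m := by
  unfold m23B at h
  simp only [andB_eq, Bool.and_eq_true, Nat.beq_eq] at h
  obtain ⟨h1, h2, h3, h4⟩ := h
  have h1' := allN_spec h1
  simp only [Bool.and_eq_true, Nat.blt_eq] at h1'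
  have hne : ∀ i < 24, ∀ j < i, get m i ≠ get m j := by
    intro i hi j hj e
    have := allN_spec (h1' i hi).2 j hj
    simp [e] at this
  have hinj : Function.Injective fun p : GolayPt => pt (get m (idx p)) := by
    intro p q e
    have e' := pt_inj (h1' _ (idx_lt p)).1 (h1' _ (idx_lt q)).1 e
    apply idx_inj
    rcases lt_trichotomy (idx p) (idx q) with h | h | h
    · exact (hne _ (idx_lt q) _ h e'.symm).elim
    · exact h
    · exact (hne _ (idx_lt p) _ h e').elim
  let σ : Perm GolayPt := Equiv.ofBijective _ (Finite.injective_iff_bijective.1 hinj)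
  have hp : pack σ = m := by
    rw [← h2]
    refine build_congr fun i hi => ?_
    show idx (pt (get m (idx (pt i)))) = _
    rw [idx_pt i hi, idx_pt _ (h1' i hi).1]
  refine ⟨σ, ⟨mem_M24_of_basis fun j hj => ?_, ?_⟩, hp⟩
  · rw [← ofMask_actN, hp, ← Nat.one_shiftLeft]
    exact cw_of_isCw (allN_spec h4 j hj)
  · show pt (get m (idx none)) = none
    rw [show idx none = 23 from rfl, h3]; rfl

theorem sum_symmDiff2 (s t : Finset GolayPt) (f : GolayPt → ZMod 2) :
    ∑ p ∈ s ∆ t, f p = ∑ p ∈ s, f p + ∑ p ∈ t, f p := by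
  rw [← Finset.sum_ite_mem_eq s, ← Finset.sum_ite_mem_eq t, ← Finset.sum_ite_mem_eq (s ∆ t),
    ← Finset.sum_add_distrib]
  refine Finset.sum_congr rfl fun p _ => ?_
  by_cases h1 : p ∈ s <;> by_cases h2 : p ∈ t <;> simp [Finset.mem_symmDiff, h1, h2]
  exact (CharTwo.add_self_eq_zero _).symm

/-- value of the linear form `F` -/
noncomputable def val (R F : ℕ) (w : ℕ → GolayPt → ZMod 2) : ZMod 2 :=
  ∑ r ∈ Finset.range R, ∑ p ∈ ofMask (F >>> (24 * r)), w r p

theorem val_zero (R : ℕ) (w : ℕ → GolayPt → ZMod 2) : val R 0 w = 0 := by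
  simp [val, ofMask_zero]

theorem val_xor (R F G : ℕ) (w : ℕ → GolayPt → ZMod 2) :
    val R (F ^^^ G) w = val R F w + val R G w := by
  simp only [val, Nat.shiftRight_xor_distrib, ofMask_xor, sum_symmDiff2, Finset.sum_add_distrib]

/-- put the low 24 bits of `x` in block `r` -/
def put (x r : ℕ) : ℕ := Nat.shiftLeft (Nat.land x 0xffffff) (Nat.mul 24 r)

theorem ofMask_put (x r r' : ℕ) :
    ofMask (put x r >>> (24 * r')) = if r' = r then ofMask x else ∅ := by
  ext p
  have hp := idx_lt p
  have : put x r = (x &&& (2 ^ 24 - 1)) <<< (24 * r) := rfl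
  rw [mem_ofMask, this, Nat.testBit_shiftRight, Nat.testBit_shiftLeft, Nat.testBit_and,
    Nat.testBit_two_pow_sub_one]
  split_ifs with h
  · subst h; simp [hp]
  · simp only [Bool.and_eq_true, decide_eq_true_eq, Finset.notMem_empty, iff_false]
    omega

theorem val_put (R x r : ℕ) (w : ℕ → GolayPt → ZMod 2) :
    val R (put x r) w = if r < R then ∑ p ∈ ofMask x, w r p else 0 := by
  simp only [val, ofMask_put]
  have : ∀ r', ∑ p ∈ (if r' = r then ofMask x else ∅), w r' p =
      if r' = r then ∑ p ∈ ofMask x, w r p else 0 := by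
    intro r'; split_ifs with h
    · rw [h]
    · simp
  simp only [this, Finset.sum_ite_eq', Finset.mem_range]

theorem val_sel (R m j F : ℕ) (w : ℕ → GolayPt → ZMod 2) :
    val R (sel m j F) w = if m.testBit j then val R F w else 0 := by
  rw [sel_eq]; split_ifs
  · rfl
  · exact val_zero R w

/-- xor of the members of `l` selected by `M` -/
noncomputable def xorSel (l : List ℕ) : ℕ → ℕ → ℕ :=
  List.rec (motive := fun _ => ℕ → ℕ → ℕ) (fun _ acc => acc)
    (fun a _ ih M acc => force (Nat.xor acc (sel M 0 a)) fun acc' =>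
      force (Nat.shiftRight M 1) fun M' => ih M' acc') l

theorem val_xorSel {R : ℕ} {w : ℕ → GolayPt → ZMod 2} {l : List ℕ}
    (h : ∀ F ∈ l, val R F w = 0) (M acc : ℕ) : val R (xorSel l M acc) w = val R acc w := by
  induction l generalizing M acc with
  | nil => rfl
  | cons a l ih =>
    have e : xorSel (a :: l) M acc = xorSel l (M >>> 1) (acc ^^^ sel M 0 a) :=
      (force_eq (Nat.xor acc (sel M 0 a)) fun acc' =>
        force (Nat.shiftRight M 1) fun M' => xorSel l M' acc').trans (force_eq _ _)
    rw [e, ih (fun F hF => h F (List.mem_cons_of_mem _ hF)), val_xor, val_sel,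
      h a List.mem_cons_self]; simp

/-- evaluate all members of a list -/
noncomputable def forceL {β : Type} (l : List ℕ) : (List ℕ → β) → β :=
  List.rec (motive := fun _ => (List ℕ → β) → β) (fun k => k [])
    (fun a _ ih k => force a fun a' => ih fun t => k (a' :: t)) l

theorem forceL_eq {β : Type} (l : List ℕ) (k : List ℕ → β) : forceL l k = k l := by
  induction l generalizing k with
  | nil => rfl
  | cons a l ih => exact (force_eq a fun a' => forceL l fun t => k (a' :: t)).trans (ih _)

/-- parity of the intersection of the first `R` blocks -/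
noncomputable def dotN (R G n : ℕ) : ℕ :=
  force (Nat.land G n) fun z =>
    Nat.rec (motive := fun _ => ℕ) 0 (fun x r => Nat.add r (pc (Nat.shiftRight z (Nat.mul 24 x)))) R

theorem sum_ind (s t : Finset GolayPt) :
    ∑ p ∈ s, (if p ∈ t then (1 : ZMod 2) else 0) = ((s ∩ t).card : ZMod 2) := by
  rw [Finset.sum_ite_mem]; simp

theorem val_dotN (R G n : ℕ) :
    val R G (fun x p => if p ∈ ofMask (n >>> (24 * x)) then 1 else 0) = (dotN R G n : ZMod 2) := by
  unfold dotN
  rw [force_eq]
  induction R with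
  | zero => simp [val]
  | succ R ih =>
    show _ = ((_ + pc ((G &&& n) >>> (24 * R)) : ℕ) : ZMod 2)
    rw [Nat.cast_add, ← ih, val, Finset.sum_range_succ, sum_ind, Nat.shiftRight_and_distrib,
      ← card_ofMask, ofMask_and]
    rfl

/-- toggle membership -/
noncomputable def toggle (e : ℕ) (l : List ℕ) : List ℕ :=
  List.rec (motive := fun _ => List ℕ) [e] (fun a t ih => iteB (Nat.beq a e) t (a :: ih)) l

theorem sum_toggle (c : ℕ → ZMod 2) (e : ℕ) (l : List ℕ) :
    ((toggle e l).map c).sum = c e + (l.map c).sum := by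
  induction l with
  | nil => rfl
  | cons a l ih =>
    show ((iteB (Nat.beq a e) l (a :: toggle e l)).map c).sum = _
    cases h : Nat.beq a e
    · simp only [iteB_false, List.map_cons, List.sum_cons, ih]; ring
    · rw [Nat.eq_of_beq_eq_true h]
      simp only [iteB_true, List.map_cons, List.sum_cons]
      rw [← add_assoc, CharTwo.add_self_eq_zero, zero_add]

end Cfsg.Agent.Coh
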